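import Cfsg.Agent.GTwoThree.Model
import Cfsg.Agent.OddHalf.Small.ChevCent
import Cfsg.Agent.OddHalf.Small.Crit
import Cfsg.Agent.OddHalf.Small.Generic
import Cfsg.Agent.ChevalleyStructure.FieldIso
import Cfsg.Agent.S1059
set_option linter.all false

-- merged: Cfsg.Agent.OddHalf.Small.G23Data
section

/-!
# Data for the centralizer of an involution of `G₂(3)`

Words in the letters `X k` of `Cfsg.Agent.GTwoThree.Model`: the involution `wz = h₆(-1)`, the elements of the monomial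
group, generators of `O₂(C(z))`, the elements of a Sylow 2-subgroup, and the tables used to check them.
-/

set_option autoImplicit false

namespace Cfsg.Agent.OddHalf.Small.G23Data

/-- `z = h₆(-1)` -/
def wz : List ℕ := [13, 10, 13, 13, 10, 13]
/-- `n` of the first fundamental root -/
def na : List ℕ := [14, 9, 14]
/-- `n` of the second fundamental root -/
def nb : List ℕ := [12, 11, 12]
/-- `h` of the first fundamental root -/
def ha : List ℕ := [15, 8, 15, 15, 8, 15]

/-- the elements of the monomial group -/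
def NL : List (List ℕ) :=
  [[], [15, 8, 15, 15, 8, 15], [13, 10, 13, 13, 10, 13], [15, 8, 15, 15, 8, 15, 13, 10, 13, 13, 10, 13],
   [14, 9, 14], [14, 9, 14, 15, 8, 15, 15, 8, 15], [14, 9, 14, 13, 10, 13, 13, 10, 13],
   [14, 9, 14, 15, 8, 15, 15, 8, 15, 13, 10, 13, 13, 10, 13], [12, 11, 12], [12, 11, 12, 15, 8, 15, 15, 8, 15],
   [12, 11, 12, 13, 10, 13, 13, 10, 13], [12, 11, 12, 15, 8, 15, 15, 8, 15, 13, 10, 13, 13, 10, 13],
   [14, 9, 14, 12, 11, 12], [14, 9, 14, 12, 11, 12, 15, 8, 15, 15, 8, 15],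
   [14, 9, 14, 12, 11, 12, 13, 10, 13, 13, 10, 13],
   [14, 9, 14, 12, 11, 12, 15, 8, 15, 15, 8, 15, 13, 10, 13, 13, 10, 13], [12, 11, 12, 14, 9, 14],
   [12, 11, 12, 14, 9, 14, 15, 8, 15, 15, 8, 15], [12, 11, 12, 14, 9, 14, 13, 10, 13, 13, 10, 13],
   [12, 11, 12, 14, 9, 14, 15, 8, 15, 15, 8, 15, 13, 10, 13, 13, 10, 13], [14, 9, 14, 12, 11, 12, 14, 9, 14],
   [14, 9, 14, 12, 11, 12, 14, 9, 14, 15, 8, 15, 15, 8, 15],
   [14, 9, 14, 12, 11, 12, 14, 9, 14, 13, 10, 13, 13, 10, 13],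
   [14, 9, 14, 12, 11, 12, 14, 9, 14, 15, 8, 15, 15, 8, 15, 13, 10, 13, 13, 10, 13],
   [12, 11, 12, 14, 9, 14, 12, 11, 12], [12, 11, 12, 14, 9, 14, 12, 11, 12, 15, 8, 15, 15, 8, 15],
   [12, 11, 12, 14, 9, 14, 12, 11, 12, 13, 10, 13, 13, 10, 13],
   [12, 11, 12, 14, 9, 14, 12, 11, 12, 15, 8, 15, 15, 8, 15, 13, 10, 13, 13, 10, 13],
   [14, 9, 14, 12, 11, 12, 14, 9, 14, 12, 11, 12],
   [14, 9, 14, 12, 11, 12, 14, 9, 14, 12, 11, 12, 15, 8, 15, 15, 8, 15],
   [14, 9, 14, 12, 11, 12, 14, 9, 14, 12, 11, 12, 13, 10, 13, 13, 10, 13],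
   [14, 9, 14, 12, 11, 12, 14, 9, 14, 12, 11, 12, 15, 8, 15, 15, 8, 15, 13, 10, 13, 13, 10, 13],
   [12, 11, 12, 14, 9, 14, 12, 11, 12, 14, 9, 14],
   [12, 11, 12, 14, 9, 14, 12, 11, 12, 14, 9, 14, 15, 8, 15, 15, 8, 15],
   [12, 11, 12, 14, 9, 14, 12, 11, 12, 14, 9, 14, 13, 10, 13, 13, 10, 13],
   [12, 11, 12, 14, 9, 14, 12, 11, 12, 14, 9, 14, 15, 8, 15, 15, 8, 15, 13, 10, 13, 13, 10, 13],
   [14, 9, 14, 12, 11, 12, 14, 9, 14, 12, 11, 12, 14, 9, 14],
   [14, 9, 14, 12, 11, 12, 14, 9, 14, 12, 11, 12, 14, 9, 14, 15, 8, 15, 15, 8, 15],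
   [14, 9, 14, 12, 11, 12, 14, 9, 14, 12, 11, 12, 14, 9, 14, 13, 10, 13, 13, 10, 13],
   [14, 9, 14, 12, 11, 12, 14, 9, 14, 12, 11, 12, 14, 9, 14, 15, 8, 15, 15, 8, 15, 13, 10, 13, 13, 10, 13],
   [12, 11, 12, 14, 9, 14, 12, 11, 12, 14, 9, 14, 12, 11, 12],
   [12, 11, 12, 14, 9, 14, 12, 11, 12, 14, 9, 14, 12, 11, 12, 15, 8, 15, 15, 8, 15],
   [12, 11, 12, 14, 9, 14, 12, 11, 12, 14, 9, 14, 12, 11, 12, 13, 10, 13, 13, 10, 13],
   [12, 11, 12, 14, 9, 14, 12, 11, 12, 14, 9, 14, 12, 11, 12, 15, 8, 15, 15, 8, 15, 13, 10, 13, 13, 10, 13],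
   [14, 9, 14, 12, 11, 12, 14, 9, 14, 12, 11, 12, 14, 9, 14, 12, 11, 12],
   [14, 9, 14, 12, 11, 12, 14, 9, 14, 12, 11, 12, 14, 9, 14, 12, 11, 12, 15, 8, 15, 15, 8, 15],
   [14, 9, 14, 12, 11, 12, 14, 9, 14, 12, 11, 12, 14, 9, 14, 12, 11, 12, 13, 10, 13, 13, 10, 13],
   [14, 9, 14, 12, 11, 12, 14, 9, 14, 12, 11, 12, 14, 9, 14, 12, 11, 12, 15, 8, 15, 15, 8, 15, 13, 10, 13, 13, 10, 13]]

/-- left multiplication by `na, nb, ha, wz` on `NL` -/
def NT : List (List ℕ) :=
  [[4, 8, 1, 2], [5, 9, 0, 3], [6, 10, 3, 0], [7, 11, 2, 1], [1, 16, 5, 7], [0, 17, 4, 6], [3, 18, 7, 5],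
   [2, 19, 6, 4], [12, 2, 11, 10], [13, 3, 10, 11], [14, 0, 9, 8], [15, 1, 8, 9], [11, 24, 15, 13],
   [10, 25, 14, 12], [9, 26, 13, 15], [8, 27, 12, 14], [20, 7, 18, 19], [21, 6, 19, 18], [22, 5, 16, 17],
   [23, 4, 17, 16], [18, 32, 22, 21], [19, 33, 23, 20], [16, 34, 20, 23], [17, 35, 21, 22], [28, 13, 26, 25],
   [29, 12, 27, 24], [30, 15, 24, 27], [31, 14, 25, 26], [26, 40, 30, 31], [27, 41, 31, 30], [24, 42, 28, 29],
   [25, 43, 29, 28], [36, 21, 35, 33], [37, 20, 34, 32], [38, 23, 33, 35], [39, 22, 32, 34], [35, 44, 39, 38],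
   [34, 45, 38, 39], [33, 46, 37, 36], [32, 47, 36, 37], [44, 31, 41, 43], [45, 30, 40, 42], [46, 29, 43, 41],
   [47, 28, 42, 40], [41, 38, 45, 46], [40, 39, 44, 47], [43, 36, 47, 44], [42, 37, 46, 45]]

/-- the indices of the elements of `NL` commuting with `z` -/
def NZ : List ℕ := [0, 1, 2, 3, 8, 9, 10, 11, 36, 37, 38, 39, 44, 45, 46, 47]

/-- the generators of the Sylow 2-subgroup; the first four generate `O₂(C(z))` -/
def PG : List (List ℕ) := [[12, 11, 12], [12, 12, 11, 12, 13], [18, 5, 18], [18, 18, 5, 18, 19], [15, 8, 15, 15, 8, 15]]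

/-- the elements of the Sylow 2-subgroup as words in `PG`; the first 32 are those of `O₂(C(z))` -/
def PW : List (List ℕ) :=
  [[], [0], [1], [2], [3], [0, 0], [0, 1], [0, 2], [0, 3], [1, 0], [1, 2], [1, 3], [2, 3], [3, 2], [0, 0, 0],
   [0, 0, 1], [0, 0, 2], [0, 0, 3], [0, 1, 2], [0, 1, 3], [0, 2, 3], [0, 3, 2], [1, 0, 2], [1, 0, 3], [1, 2, 3],
   [1, 3, 2], [0, 0, 0, 2], [0, 0, 0, 3], [0, 0, 1, 2], [0, 0, 1, 3], [0, 1, 2, 3], [0, 1, 3, 2], [4], [0, 4],
   [1, 4], [2, 4], [3, 4], [0, 0, 4], [0, 1, 4], [0, 2, 4], [0, 3, 4], [1, 0, 4], [1, 2, 4], [1, 3, 4], [2, 3, 4],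
   [3, 2, 4], [0, 0, 0, 4], [0, 0, 1, 4], [0, 0, 2, 4], [0, 0, 3, 4], [0, 1, 2, 4], [0, 1, 3, 4], [0, 2, 3, 4],
   [0, 3, 2, 4], [1, 0, 2, 4], [1, 0, 3, 4], [1, 2, 3, 4], [1, 3, 2, 4], [0, 0, 0, 2, 4], [0, 0, 0, 3, 4],
   [0, 0, 1, 2, 4], [0, 0, 1, 3, 4], [0, 1, 2, 3, 4], [0, 1, 3, 2, 4]]

/-- right multiplication by `PG` on `PW` -/
def PT : List (List ℕ) :=
  [[1, 2, 3, 4, 32], [5, 6, 7, 8, 33], [9, 5, 10, 11, 34], [7, 10, 5, 12, 35], [8, 11, 13, 5, 36],
   [14, 15, 16, 17, 37], [2, 14, 18, 19, 38], [16, 18, 14, 20, 39], [17, 19, 21, 14, 40], [15, 1, 22, 23, 41],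
   [22, 16, 15, 24, 42], [23, 17, 25, 15, 43], [20, 24, 4, 16, 44], [21, 25, 17, 3, 45], [0, 9, 26, 27, 46],
   [6, 0, 28, 29, 47], [26, 28, 0, 13, 48], [27, 29, 12, 0, 49], [10, 26, 9, 30, 50], [11, 27, 31, 9, 51],
   [13, 30, 8, 26, 52], [12, 31, 27, 7, 53], [28, 7, 6, 31, 54], [29, 8, 30, 6, 55], [31, 13, 11, 28, 56],
   [30, 12, 29, 10, 57], [3, 22, 1, 21, 58], [4, 23, 20, 1, 59], [18, 3, 2, 25, 60], [19, 4, 24, 2, 61],
   [24, 21, 19, 22, 62], [25, 20, 23, 18, 63], [46, 38, 48, 44, 0], [32, 47, 58, 52, 1], [38, 33, 60, 56, 2],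
   [58, 50, 32, 49, 3], [59, 51, 44, 35, 4], [33, 41, 35, 45, 5], [47, 37, 54, 62, 6], [35, 60, 33, 59, 7],
   [36, 61, 52, 39, 8], [34, 32, 50, 63, 9], [50, 39, 34, 61, 10], [51, 40, 56, 42, 11], [53, 62, 49, 37, 12],
   [52, 63, 36, 32, 13], [37, 34, 39, 53, 14], [41, 46, 42, 57, 15], [39, 54, 37, 36, 16], [40, 55, 45, 48, 17],
   [60, 48, 38, 55, 18], [61, 49, 62, 50, 19], [44, 57, 59, 46, 20], [45, 56, 40, 33, 21], [42, 35, 41, 51, 22],
   [43, 36, 63, 54, 23], [62, 52, 61, 47, 24], [63, 53, 43, 34, 25], [48, 42, 46, 40, 26], [49, 43, 53, 58, 27],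
   [54, 58, 47, 43, 28], [55, 59, 57, 60, 29], [57, 45, 55, 41, 30], [56, 44, 51, 38, 31]]

/-- `c` with `c x c⁻¹ = z` for the involutions `x` in `PW` -/
def PC : List (List ℕ) :=
  [[], [], [], [], [], [], [], [0, 9, 15, 22], [0, 9, 15, 19, 22], [], [0, 9, 15, 13, 22], [0, 20, 9, 12, 15], [],
   [], [], [], [], [], [0, 9, 15, 22, 11], [0, 2, 15, 2, 17, 23], [0, 9, 15, 22, 5], [0, 9, 15, 18, 22],
   [0, 9, 15, 12, 22], [0, 2, 9, 16, 15, 21], [0, 2, 6, 15, 16, 23], [0, 2, 16, 0, 14, 21], [0, 8, 14, 16, 22, 6],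
   [0, 9, 15, 22, 4], [0, 9, 15, 22, 10], [0, 17, 21, 12, 7], [0, 20, 12, 14, 8], [0, 16, 20, 13, 6], [2, 21, 2],
   [0, 2, 20, 22, 1], [], [0, 6, 23, 0, 5], [], [0, 23, 0], [], [0, 8, 14, 22], [], [], [], [], [], [],
   [0, 2, 21, 2, 12], [], [0, 7, 23, 0, 4], [], [], [], [], [], [], [], [], [], [2, 7, 17, 20], [], [], [], [], []]

/-- `x₆(1)`, `x₆(2)`, `x₉(1)`, `x₉(2)` and the elements of `NZ` -/
def NG : List (List ℕ) :=
  [[12], [13], [18], [19], [], [15, 8, 15, 15, 8, 15], [13, 10, 13, 13, 10, 13],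
   [15, 8, 15, 15, 8, 15, 13, 10, 13, 13, 10, 13], [12, 11, 12], [12, 11, 12, 15, 8, 15, 15, 8, 15],
   [12, 11, 12, 13, 10, 13, 13, 10, 13], [12, 11, 12, 15, 8, 15, 15, 8, 15, 13, 10, 13, 13, 10, 13],
   [14, 9, 14, 12, 11, 12, 14, 9, 14, 12, 11, 12, 14, 9, 14],
   [14, 9, 14, 12, 11, 12, 14, 9, 14, 12, 11, 12, 14, 9, 14, 15, 8, 15, 15, 8, 15],
   [14, 9, 14, 12, 11, 12, 14, 9, 14, 12, 11, 12, 14, 9, 14, 13, 10, 13, 13, 10, 13],
   [14, 9, 14, 12, 11, 12, 14, 9, 14, 12, 11, 12, 14, 9, 14, 15, 8, 15, 15, 8, 15, 13, 10, 13, 13, 10, 13],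
   [14, 9, 14, 12, 11, 12, 14, 9, 14, 12, 11, 12, 14, 9, 14, 12, 11, 12],
   [14, 9, 14, 12, 11, 12, 14, 9, 14, 12, 11, 12, 14, 9, 14, 12, 11, 12, 15, 8, 15, 15, 8, 15],
   [14, 9, 14, 12, 11, 12, 14, 9, 14, 12, 11, 12, 14, 9, 14, 12, 11, 12, 13, 10, 13, 13, 10, 13],
   [14, 9, 14, 12, 11, 12, 14, 9, 14, 12, 11, 12, 14, 9, 14, 12, 11, 12, 15, 8, 15, 15, 8, 15, 13, 10, 13, 13, 10, 13]]

/-- conjugation of the first four elements of `PG` by `NG` -/
def QT : List (List ℕ) :=
  [[2, 9, 3, 4], [9, 1, 3, 4], [1, 2, 4, 13], [1, 2, 13, 3], [1, 2, 3, 4], [14, 6, 16, 12], [1, 2, 3, 4],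
   [14, 6, 16, 12], [1, 15, 3, 4], [14, 9, 16, 12], [1, 15, 3, 4], [14, 9, 16, 12], [1, 2, 3, 17], [14, 6, 16, 13],
   [1, 2, 3, 17], [14, 6, 16, 13], [1, 15, 3, 17], [14, 9, 16, 13], [1, 15, 3, 17], [14, 9, 16, 13]]

/-- a row vector separating the elements -/
def R0 : ℕ := 182710016301927014060020223461642427542381002752

/-- the images of `R0` under the elements of `PW` -/
def PR : List ℕ :=
  [182710016301927014060020223461642427542381002752, 182732317048454772599718503094974219798402039808,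
   182732306158089803133864075489069149627963408384, 91366153078380287608653668148764705191289163777,
   182710016303256241976576976820281615671579639808, 182710010858738371241542218593174625509007425536,
   182710010856079915170763557703789103725364117504, 91388453823578818152586374722307087266339622914,
   182732311603936901864683744867867229635829825536, 182710016300597785905759630304669270110556389376,
   91388453823578818231814541957784986087482982401, 182732311601278445793905098142122391947301617664,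
   91366153078380287529464191260728035662616338433, 91366153078380287529444848447614483139517222914,
   182732311602607673948126991509227197287859486720, 182732306159419031208877153876237575688044937216,
   91366153078380287687881830663029324191090352130, 182710010857409143324985465234534593161037086720,
   91366153078380287608692344332564969119826321408, 182710005414220500585735613437904287466107437056,
   91388453823578818231795194423457309318111563777, 91388453823578818311023356937721928317912752130,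
   91366153078380287687901164033715472577855492096, 182710005412891272510722535050735861406025908224,
   91388453823578818311042704472048760799792992256, 91388453823578818231833884770898257341763821568,
   91388453823578818152605717535420639789438738433, 182732317047125544683161749736335031669203402752,
   91388453823578818311062047285162876272845520898, 182732317045796316528901170743002558332493889536,
   91366153078380287608673001519451697865545482241, 91366153078380287687920506846829588050908020738,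
   182710016303255917458023313671188630983434829824, 182732317047125220164608091310760888611515662336,
   182732306159418706690323500171876993926676086784, 91366153078380612206435484367389343002505781249,
   182710016301926689541466560312548880110441201664, 182710010857408818806431802085441890016588464128,
   182710010856079590652209899275909399133439393792, 91388453823579142671140033150186791858264350722,
   182732311602607349429573333083653898517662924800, 182710016300597461387205971876789565381192712192,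
   91388453823579142829596367621142589706709499905, 182732311601278121275351444437762091729628954624,
   91366153078380612048017844965088336017727950849, 91366153078380612047998502151974783357189890050,
   182732311603936577346130086442292805171884851200, 182732306158089478615310421784709130816547979264,
   91366153078380612127207321853125286952658014210, 182710010858738046722988555444080796670810390528,
   91366153078380612206474165272403168296081297408, 182710005412890947992168876622856438220358418432,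
   91388453823579142829577015365601351503580241921, 91388453823579142750348852851337295453732474882,
   91366153078380612127226659945024996704461529088, 182710005414220176067181955010024301330486525952,
   91388453823579142750368205106877689300651089920, 91388453823579142829615710434255860892270858240,
   91388453823579142671159375963300344518802411521, 182732317048454448081164844669400639484509290496,
   91388453823579142750387547919991804704984137730, 182732317045795992010347517038642257977382273024,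
   91366153078380612206454822459289897110519939073, 91366153078380612127246002758139112108794576898]

end Cfsg.Agent.OddHalf.Small.G23Data

end

-- merged: Cfsg.Agent.OddHalf.Small.G23Check
section

/-!
# Kernel checks for the centralizer of an involution of `G₂(3)`
-/

set_option autoImplicit false
set_option Elab.async false
set_option maxRecDepth 100000

namespace Cfsg.Agent.OddHalf.Small.G23Check

open Cfsg.Lie
open Cfsg.Agent.Lib.PackMat
open Cfsg.Agent.GTwoThree.ModelData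
open Cfsg.Agent.GTwoThree.Model
open Cfsg.Agent.OddHalf.Small.G23Data

/-- the image of the row `R0` under a word -/
noncomputable def rr (w : List ℕ) : ℕ :=
  withC C3 fun _ p r m t nf GM FM LO HI HT => runK p r m t nf GM FM LO HI HT (w.map cd) R0

theorem rr_eq (w : List ℕ) : rr w = run C3 (w.map cd) R0 := rfl

/-- equality of two words -/
noncomputable def eqc (w w' : List ℕ) : Bool := checkEq C3 (w.map cd) (w'.map cd) 0 14

/-- the values of two words on `R0` differ -/
noncomputable def nec (w w' : List ℕ) : Bool := !(Nat.beq (rr w) (rr w'))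

theorem R0_ok : OkR C3 R0 := by
  refine ⟨by decide +kernel, ?_⟩
  have : ∀ i < 14, dg C3.s R0 i < C3.p := by decide +kernel
  exact this

theorem eq_of_eqc {w w' : List ℕ} (h : eqc w w' = true) : ev y w = ev y w' := key w w' h

theorem rr_congr {w w' : List ℕ} (e : ev y w = ev y w') : rr w = rr w' := by
  have e1 : θ (ev X w) = θ (ev X w') := by rw [← ev_y, ← ev_y, e]
  have e2 : ev X w = ev X w' := θ.injective e1
  have e3 : ((w.map cd).map (mat C3)).prod = ((w'.map cd).map (mat C3)).prod := by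
    rw [← ev_val, ← ev_val, e2]
  obtain ⟨h1, h2⟩ := run_spec (good_of_check good3) (w.map cd) (ok_map w) R0_ok
  obtain ⟨h3, h4⟩ := run_spec (good_of_check good3) (w'.map cd) (ok_map w') R0_ok
  rw [rr_eq, rr_eq]
  exact rowVec_injOn h1 h3 (by rw [h2, h4, e3])

theorem ne_of_nec {w w' : List ℕ} (h : nec w w' = true) : ev y w ≠ ev y w' := by
  intro e
  have h5 : nec w w' = false := by
    unfold nec
    rw [rr_congr e, Nat.beq_refl]
    rfl
  rw [h5] at h
  exact Bool.noConfusion h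

/-! ### The monomial group -/

theorem NL_zero : NL.getD 0 [] = [] := rfl

theorem NT_check : ∀ i < 48, ∀ k < 4, ((NT.getD i []).getD k 0 < 48 ∧
    eqc (([na, nb, ha, wz].getD k []) ++ NL.getD i []) (NL.getD ((NT.getD i []).getD k 0) []) = true) := by
  decide +kernel

theorem NZ_check : ∀ i < 48, i ∈ NZ ∨ nec (NL.getD i [] ++ wz) (wz ++ NL.getD i []) = true := by
  decide +kernel

/-! ### The unipotent group -/

/-- the word of `∏ x_r(t_r)`, `6 ≤ r < 12` -/
def uw (a b c d e f : ℕ) : List ℕ := wx 6 a ++ (wx 7 b ++ (wx 8 c ++ (wx 9 d ++ (wx 10 e ++ wx 11 f))))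

/-- the check for one word -/
noncomputable def uc (a b c d e f : ℕ) : Bool :=
  (Nat.beq (b + c + e + f) 0) || nec (uw a b c d e f ++ wz) (wz ++ uw a b c d e f)

/-- the check for the last three coordinates -/
def UC (a b c : ℕ) : Prop := ∀ d < 3, ∀ e < 3, ∀ f < 3, uc a b c d e f = true

noncomputable instance (a b c : ℕ) : Decidable (UC a b c) := by unfold UC; infer_instance

theorem U_check : ∀ a < 3, ∀ b < 3, ∀ c < 3, UC a b c := by
  decide +kernel

theorem U_check' {a b c d e f : ℕ} (ha : a < 3) (hb : b < 3) (hc : c < 3) (hd : d < 3) (he : e < 3) (hf : f < 3) :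
    (b = 0 ∧ c = 0 ∧ e = 0 ∧ f = 0) ∨ nec (uw a b c d e f ++ wz) (wz ++ uw a b c d e f) = true := by
  have h := U_check a ha b hb c hc d hd e he f hf
  unfold uc at h
  rw [Bool.or_eq_true] at h
  rcases h with h | h
  · left
    have := Nat.eq_of_beq_eq_true h
    omega
  · exact Or.inr h

/-! ### `O₂(C(z))` and the Sylow 2-subgroup -/

/-- letters of a word in `PG` -/
def ex (w : List ℕ) : List ℕ := w.flatMap fun k => PG.getD k []

theorem PW_zero : PW.getD 0 [] = [] := rfl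

theorem PT_check : ∀ i < 64, ∀ k < 5, ((PT.getD i []).getD k 0 < 64 ∧
    eqc (ex (PW.getD i []) ++ PG.getD k []) (ex (PW.getD ((PT.getD i []).getD k 0) [])) = true) := by
  decide +kernel

theorem PT_check4 : ∀ i < 32, ∀ k < 4, (PT.getD i []).getD k 0 < 32 := by
  decide +kernel

theorem PW_lt : ∀ i < 64, ∀ k ∈ PW.getD i [], k < 5 := by decide +kernel

theorem PW_lt4 : ∀ i < 32, ∀ k ∈ PW.getD i [], k < 4 := by decide +kernel

theorem PG_four : ∀ k < 5, eqc (PG.getD k [] ++ (PG.getD k [] ++ (PG.getD k [] ++ PG.getD k []))) [] = true := by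
  decide +kernel

theorem PW_eight : ∀ i < 64, eqc (ex (PW.getD i []) ++ (ex (PW.getD i []) ++ (ex (PW.getD i []) ++
    (ex (PW.getD i []) ++ (ex (PW.getD i []) ++ (ex (PW.getD i []) ++ (ex (PW.getD i []) ++
      ex (PW.getD i [])))))))) [] = true := by
  decide +kernel

theorem PW_inv : ∀ i < 64, i = 0 ∨ nec (ex (PW.getD i []) ++ ex (PW.getD i [])) [] = true ∨
    eqc (PC.getD i [] ++ ex (PW.getD i [])) (wz ++ PC.getD i []) = true := by
  decide +kernel

/-- the values on `R0` of the elements of the Sylow subgroup -/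
theorem PW_rr : ∀ i < 64, rr (ex (PW.getD i [])) = PR.getD i 0 := by
  decide +kernel

theorem PR_inj : ∀ i < 64, ∀ j < i, PR.getD i 0 ≠ PR.getD j 0 := by decide +kernel

/-! ### The centralizer of `z` -/

theorem QT_check : ∀ i < 20, ∀ k < 4, ((QT.getD i []).getD k 0 < 32 ∧
    eqc (NG.getD i [] ++ PG.getD k []) (ex (PW.getD ((QT.getD i []).getD k 0) []) ++ NG.getD i []) = true) := by
  decide +kernel

theorem NG_check : ∀ i ∈ NZ, ∃ k < 20, NL.getD i [] = NG.getD k [] := by decide +kernel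

theorem NG_wx6 : ∀ a < 3, wx 6 a = [] ∨ ∃ k < 20, wx 6 a = NG.getD k [] := by decide +kernel

theorem NG_wx9 : ∀ a < 3, wx 9 a = [] ∨ ∃ k < 20, wx 9 a = NG.getD k [] := by decide +kernel

theorem C_check : ∀ i ∈ NZ, ∀ a < 3, ∀ d < 3,
    (∃ k < 4, nec ((NL.getD i [] ++ (wx 6 a ++ wx 9 d)) ++ PG.getD k []) (PG.getD k [] ++ (NL.getD i [] ++ (wx 6 a ++ wx 9 d)))
      = true) ∨
    eqc ((NL.getD i [] ++ (wx 6 a ++ wx 9 d)) ++ (NL.getD i [] ++ (wx 6 a ++ wx 9 d))) [] = true := by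
  decide +kernel

end Cfsg.Agent.OddHalf.Small.G23Check

end

-- merged: Cfsg.Agent.OddHalf.Small.G23
section

/-!
# `G₂(3)` is of characteristic 2 type

Every involution is conjugate to `z = h₆(-1)` (a Sylow 2-subgroup is listed), `C(z)` is read off the Bruhat
decomposition, and no nontrivial element of odd order of `C(z)` centralizes `O₂(C(z)) = Q₈ ∘ Q₈`.
-/

set_option autoImplicit false
set_option maxRecDepth 10000

namespace Cfsg.Agent.OddHalf.Small.G23

open Cfsg.Lie
open Cfsg.Agent.GTwoThree.Model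
open Cfsg.Agent.OddHalf.Small.G23Data Cfsg.Agent.OddHalf.Small.G23Check
open Cfsg.Agent.ChevalleyStructure Cfsg.Agent.ChevalleyStructure.Elts

/-! ### Listed subgroups -/

section listed

variable {G : Type*}

theorem exists_inv {n : ℕ} {f : ℕ → G} {σ : G → G} (hσ : Function.Injective σ)
    (h : ∀ i < n, ∃ j < n, σ (f i) = f j) : ∀ i < n, ∃ j < n, σ (f j) = f i := by
  have hfin : (f '' {i | i < n}).Finite := (Set.finite_lt_nat n).image f
  have hsub : σ '' (f '' {i | i < n}) ⊆ f '' {i | i < n} := by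
    rintro _ ⟨_, ⟨i, hi, rfl⟩, rfl⟩
    obtain ⟨j, hj, e⟩ := h i hi
    exact ⟨j, hj, e.symm⟩
  have heq : σ '' (f '' {i | i < n}) = f '' {i | i < n} :=
    Set.eq_of_subset_of_ncard_le hsub (Set.ncard_image_of_injective _ hσ).ge hfin
  intro i hi
  have h1 : f i ∈ σ '' (f '' {i | i < n}) := by rw [heq]; exact ⟨i, hi, rfl⟩
  obtain ⟨_, ⟨j, hj, rfl⟩, e⟩ := h1
  exact ⟨j, hj, e⟩

variable [Group G]

/-- the elements whose left multiplication preserves the list -/
def stL (f : ℕ → G) (n : ℕ) : Subgroup G where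
  carrier := {g | ∀ i < n, ∃ j < n, g * f i = f j}
  one_mem' := fun i hi => ⟨i, hi, one_mul _⟩
  mul_mem' := by
    intro a b ha hb i hi
    obtain ⟨j, hj, e⟩ := hb i hi
    obtain ⟨k, hk, e'⟩ := ha j hj
    exact ⟨k, hk, by rw [mul_assoc, e, e']⟩
  inv_mem' := by
    intro a ha i hi
    obtain ⟨j, hj, e⟩ := exists_inv (mul_right_injective a) ha i hi
    exact ⟨j, hj, by rw [← e]; exact inv_mul_cancel_left _ _⟩

/-- the elements whose right multiplication preserves the list -/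
def stR (f : ℕ → G) (n : ℕ) : Subgroup G where
  carrier := {g | ∀ i < n, ∃ j < n, f i * g = f j}
  one_mem' := fun i hi => ⟨i, hi, mul_one _⟩
  mul_mem' := by
    intro a b ha hb i hi
    obtain ⟨j, hj, e⟩ := ha i hi
    obtain ⟨k, hk, e'⟩ := hb j hj
    exact ⟨k, hk, by rw [← mul_assoc, e, e']⟩
  inv_mem' := by
    intro a ha i hi
    obtain ⟨j, hj, e⟩ := exists_inv (mul_left_injective a) ha i hi
    exact ⟨j, hj, by rw [← e]; exact mul_inv_cancel_right _ _⟩

theorem exists_of_stL {f : ℕ → G} {n : ℕ} (h0 : 0 < n) (hf : f 0 = 1) {g : G} (hg : g ∈ stL f n) :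
    ∃ i < n, g = f i := by
  obtain ⟨j, hj, e⟩ := hg 0 h0
  exact ⟨j, hj, by rw [← e, hf, mul_one]⟩

theorem exists_of_stR {f : ℕ → G} {n : ℕ} (h0 : 0 < n) (hf : f 0 = 1) {g : G} (hg : g ∈ stR f n) :
    ∃ i < n, g = f i := by
  obtain ⟨j, hj, e⟩ := hg 0 h0
  exact ⟨j, hj, by rw [← e, hf, one_mul]⟩

theorem norm_closure {S : Set G} {g : G} (h : ∀ s ∈ S, g * s * g⁻¹ ∈ Subgroup.closure S) :
    ∀ x ∈ Subgroup.closure S, g * x * g⁻¹ ∈ Subgroup.closure S := by
  have : Subgroup.closure S ≤ (Subgroup.closure S).comap (MulAut.conj g).toMonoidHom :=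
    (Subgroup.closure_le _).2 h
  intro x hx
  exact this hx

end listed

/-! ### Words in root elements -/

theorem hD : InList chevG2 := List.mem_cons_self ..

/-- the value of a word in the general linear group -/
def gv (w : List ℕ) : GL I14 (ZMod 3) := θ (ev X w)

theorem gv_append (u v : List ℕ) : gv (u ++ v) = gv u * gv v := by
  unfold gv; rw [ev_append, map_mul]

theorem coe_ev (w : List ℕ) : ((ev y w : ↥Gp) : GL I14 (ZMod 3)) = gv w := ev_y w

theorem gv_eq {w w' : List ℕ} (h : eqc w w' = true) : gv w = gv w' := by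
  rw [← coe_ev, ← coe_ev, eq_of_eqc h]

theorem coe_word (l : List (ℕ × Fin 3)) (hl : ∀ p ∈ l, p.1 < 12) :
    ((gv (l.flatMap fun p => wx p.1 p.2.val) : GL I14 (ZMod 3)) : Matrix I14 I14 (ZMod 3)) =
      chevG2.wordMat (ZMod 3) (l.map fun p => (p.1, ((p.2.val : ℕ) : ZMod 3))) := by
  induction l with
  | nil => unfold gv; rw [List.flatMap_nil, ev_nil, map_one]; rfl
  | cons p l ih =>
    have h1 : p.1 < 12 := hl p (List.mem_cons_self ..)
    rw [List.flatMap_cons, gv_append, Units.val_mul, ih fun q hq => hl q (List.mem_cons_of_mem _ hq)]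
    have h2 := θ_x ⟨p.1, h1⟩ p.2
    have h3 : ((gv (wx p.1 p.2.val) : GL I14 (ZMod 3)) : Matrix I14 I14 (ZMod 3)) =
        chevG2.x (ZMod 3) p.1 ((p.2.val : ℕ) : ZMod 3) := by
      have h4 : chevG2.x (ZMod 3) p.1 ((p.2.val : ℕ) : ZMod 3) = xm ⟨p.1, h1⟩ ((p.2.val : ℕ) : ZMod 3) := by
        unfold ChevalleyDatum.x
        exact dif_pos h1
      rw [h4]
      exact h2
    rw [h3, List.map_cons]
    rfl

theorem eq_gv {g : GL I14 (ZMod 3)} (l : List (ℕ × Fin 3)) (hl : ∀ p ∈ l, p.1 < 12) {m : List (ℕ × ZMod 3)}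
    (hm : m = l.map fun p => (p.1, ((p.2.val : ℕ) : ZMod 3)))
    (hg : (g : Matrix I14 I14 (ZMod 3)) = chevG2.wordMat (ZMod 3) m) :
    g = gv (l.flatMap fun p => wx p.1 p.2.val) := by
  apply Units.ext
  rw [hg, hm]
  exact (coe_word l hl).symm

theorem zmod_cases (t : ZMod 3) : ∃ s : Fin 3, t = ((s.val : ℕ) : ZMod 3) := by
  revert t; decide

/-! ### The monomial group -/

theorem gv_NL_zero : gv (NL.getD 0 []) = 1 := by
  rw [NL_zero]; unfold gv; rw [ev_nil, map_one]

theorem gen_mem (k : ℕ) (hk : k < 4) : gv ([na, nb, ha, wz].getD k []) ∈ stL (fun i => gv (NL.getD i [])) 48 := by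
  intro i hi
  obtain ⟨h1, h2⟩ := NT_check i hi k hk
  refine ⟨_, h1, ?_⟩
  show gv _ * gv _ = gv _
  rw [← gv_append]
  exact gv_eq h2

theorem diagonal_le : chevG2.diagonalSubgroup (ZMod 3) ≤ stL (fun i => gv (NL.getD i [])) 48 := by
  intro g hg
  obtain ⟨c, hc, e⟩ := Cfsg.Agent.S1034.result chevG2 hD g hg
  have h0 : c 0 = 1 ∨ c 0 = 2 := by
    have := hc 0 (by decide)
    revert this
    generalize c 0 = t
    revert t; decide
  have h1 : c 1 = 1 ∨ c 1 = 2 := by
    have := hc 1 (by decide)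
    revert this
    generalize c 1 = t
    revert t; decide
  have e2 : ((List.range chevG2.rank).flatMap fun i => chevG2.hWord (chevG2.simple i) (c i)) =
      chevG2.hWord 7 (c 0) ++ chevG2.hWord 6 (c 1) := by
    have : List.range chevG2.rank = [0, 1] := by decide
    rw [this, List.flatMap_cons, List.flatMap_cons, List.flatMap_nil, List.append_nil]
    rfl
  rw [e2] at e
  have key : ∃ u v : List ℕ, g = gv (u ++ v) ∧ (gv u = gv ha ∨ gv u = 1) ∧ (gv v = gv wz ∨ gv v = 1) := by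
    rcases h0 with h0 | h0 <;> rcases h1 with h1 | h1 <;> rw [h0, h1] at e
    · have e3 := eq_gv [(7, 1), (4, 2), (7, 1), (7, 2), (4, 1), (7, 2), (6, 1), (5, 2), (6, 1), (6, 2), (5, 1), (6, 2)]
        (by decide) (by decide +kernel) e
      refine ⟨[14, 9, 14, 15, 8, 15], [12, 11, 12, 13, 10, 13], e3, Or.inr ?_, Or.inr ?_⟩
      · rw [gv_eq (w' := []) (by decide +kernel)]; exact gv_NL_zero
      · rw [gv_eq (w' := []) (by decide +kernel)]; exact gv_NL_zero
    · have e3 := eq_gv [(7, 1), (4, 2), (7, 1), (7, 2), (4, 1), (7, 2), (6, 2), (5, 1), (6, 2), (6, 2), (5, 1), (6, 2)]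
        (by decide) (by decide +kernel) e
      refine ⟨[14, 9, 14, 15, 8, 15], [13, 10, 13, 13, 10, 13], e3, Or.inr ?_, Or.inl rfl⟩
      · rw [gv_eq (w' := []) (by decide +kernel)]; exact gv_NL_zero
    · have e3 := eq_gv [(7, 2), (4, 1), (7, 2), (7, 2), (4, 1), (7, 2), (6, 1), (5, 2), (6, 1), (6, 2), (5, 1), (6, 2)]
        (by decide) (by decide +kernel) e
      refine ⟨[15, 8, 15, 15, 8, 15], [12, 11, 12, 13, 10, 13], e3, Or.inl rfl, Or.inr ?_⟩
      · rw [gv_eq (w' := []) (by decide +kernel)]; exact gv_NL_zero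
    · have e3 := eq_gv [(7, 2), (4, 1), (7, 2), (7, 2), (4, 1), (7, 2), (6, 2), (5, 1), (6, 2), (6, 2), (5, 1), (6, 2)]
        (by decide) (by decide +kernel) e
      exact ⟨[15, 8, 15, 15, 8, 15], [13, 10, 13, 13, 10, 13], e3, Or.inl rfl, Or.inl rfl⟩
  obtain ⟨u, v, e3, hu, hv⟩ := key
  rw [e3, gv_append]
  refine Subgroup.mul_mem _ ?_ ?_
  · rcases hu with hu | hu <;> rw [hu]
    · exact gen_mem 2 (by norm_num)
    · exact Subgroup.one_mem _
  · rcases hv with hv | hv <;> rw [hv]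
    · exact gen_mem 3 (by norm_num)
    · exact Subgroup.one_mem _

theorem nS_zero : NConj.nS hD (ZMod 3) 0 = gv na := by
  have e1 : chevG2.nWord 7 (1 : ZMod 3) =
      [(7, 1), (4, 2), (7, 1)].map fun p : ℕ × Fin 3 => (p.1, ((p.2.val : ℕ) : ZMod 3)) := by decide +kernel
  have h7 : chevG2.simple 0 = 7 := by decide
  have e2 : ((NConj.nS hD (ZMod 3) 0 : GL chevG2.Idx (ZMod 3)) : Matrix chevG2.Idx chevG2.Idx (ZMod 3)) =
      chevG2.nMat (ZMod 3) (chevG2.simple 0) 1 := coe_nG hD _ _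
  rw [h7] at e2
  unfold ChevalleyDatum.nMat at e2
  exact eq_gv [(7, 1), (4, 2), (7, 1)] (by decide) e1 e2

theorem nS_one : NConj.nS hD (ZMod 3) 1 = gv nb := by
  have e1 : chevG2.nWord 6 (1 : ZMod 3) =
      [(6, 1), (5, 2), (6, 1)].map fun p : ℕ × Fin 3 => (p.1, ((p.2.val : ℕ) : ZMod 3)) := by decide +kernel
  have h6 : chevG2.simple 1 = 6 := by decide
  have e2 : ((NConj.nS hD (ZMod 3) 1 : GL chevG2.Idx (ZMod 3)) : Matrix chevG2.Idx chevG2.Idx (ZMod 3)) =
      chevG2.nMat (ZMod 3) (chevG2.simple 1) 1 := coe_nG hD _ _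
  rw [h6] at e2
  unfold ChevalleyDatum.nMat at e2
  exact eq_gv [(6, 1), (5, 2), (6, 1)] (by decide) e1 e2

theorem exists_mono {n : GL I14 (ZMod 3)} (hn : n ∈ chevG2.monomialSubgroup (ZMod 3)) :
    ∃ i < 48, n = gv (NL.getD i []) := by
  refine exists_of_stL (f := fun i => gv (NL.getD i [])) (by norm_num) gv_NL_zero ?_
  refine NConj.monomial_le_of hD diagonal_le ?_ hn
  intro i hi
  have hi' : i = 0 ∨ i = 1 := by
    have : i < 2 := hi
    omega
  rcases hi' with rfl | rfl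
  · rw [nS_zero]
    exact gen_mem 0 (by norm_num)
  · rw [nS_one]
    exact gen_mem 1 (by norm_num)

/-! ### The centralizer of `z` -/

theorem z_mem_diagonal : gv wz ∈ chevG2.diagonalSubgroup (ZMod 3) := by
  refine Subgroup.subset_closure ⟨6, 2, by decide, by decide, ?_⟩
  have e1 : chevG2.hWord 6 (2 : ZMod 3) = [(6, 2), (5, 1), (6, 2), (6, 2), (5, 1), (6, 2)].map
      fun p : ℕ × Fin 3 => (p.1, ((p.2.val : ℕ) : ZMod 3)) := by decide +kernel
  unfold ChevalleyDatum.hMat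
  rw [e1]
  exact coe_word [(6, 2), (5, 1), (6, 2), (6, 2), (5, 1), (6, 2)] (by decide)

theorem exists_pos {u : GL I14 (ZMod 3)} (hu : u ∈ chevG2.posUnipotent (ZMod 3)) :
    ∃ a b c d e f : Fin 3, u = gv (uw a.val b.val c.val d.val e.val f.val) := by
  obtain ⟨t, ⟨-, ht⟩, -⟩ := (Cfsg.Agent.S1026.result (F := ZMod 3) chevG2 hD).1 u hu
  have hp : chevG2.posRoots = [6, 7, 8, 9, 10, 11] := by decide +kernel
  rw [hp] at ht
  obtain ⟨a, ha⟩ := zmod_cases (t 6)
  obtain ⟨b, hb⟩ := zmod_cases (t 7)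
  obtain ⟨c, hc⟩ := zmod_cases (t 8)
  obtain ⟨d, hd⟩ := zmod_cases (t 9)
  obtain ⟨e, he⟩ := zmod_cases (t 10)
  obtain ⟨f, hf⟩ := zmod_cases (t 11)
  have e1 : ([6, 7, 8, 9, 10, 11].map fun r => (r, t r)) = [(6, a), (7, b), (8, c), (9, d), (10, e), (11, f)].map
      fun p : ℕ × Fin 3 => (p.1, ((p.2.val : ℕ) : ZMod 3)) := by
    simp only [List.map_cons, List.map_nil, ha, hb, hc, hd, he, hf]
  have h2 := eq_gv [(6, a), (7, b), (8, c), (9, d), (10, e), (11, f)] (by simp) e1 ht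
  refine ⟨a, b, c, d, e, f, h2.trans ?_⟩
  simp only [List.flatMap_cons, List.flatMap_nil, List.append_nil, uw]

theorem ev_of_gv {w w' : List ℕ} (h : gv w = gv w') : ev y w = ev y w' := by
  apply Subtype.ext
  rw [coe_ev, coe_ev, h]

theorem pos_cent {u : GL I14 (ZMod 3)} (hu : u ∈ chevG2.posUnipotent (ZMod 3)) (hc : u * gv wz = gv wz * u) :
    ∃ a d : Fin 3, u = gv (wx 6 a.val ++ wx 9 d.val) := by
  obtain ⟨a, b, c, d, e, f, rfl⟩ := exists_pos hu
  rw [← gv_append, ← gv_append] at hc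
  rcases U_check' a.2 b.2 c.2 d.2 e.2 f.2 with ⟨hb, hc', he, hf⟩ | h
  · refine ⟨a, d, ?_⟩
    rw [hb, hc', he, hf]
    congr 1
    show wx 6 a.val ++ ([] ++ ([] ++ (wx 9 d.val ++ ([] ++ [])))) = _
    simp
  · exact absurd (ev_of_gv hc) (ne_of_nec h)

theorem mono_cent {n : GL I14 (ZMod 3)} (hn : n ∈ chevG2.monomialSubgroup (ZMod 3))
    (hc : n * gv wz = gv wz * n) : ∃ i ∈ NZ, n = gv (NL.getD i []) := by
  obtain ⟨i, hi, rfl⟩ := exists_mono hn
  rw [← gv_append, ← gv_append] at hc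
  rcases NZ_check i hi with h | h
  · exact ⟨i, h, rfl⟩
  · exact absurd (ev_of_gv hc) (ne_of_nec h)

/-- the involution -/
def z : ↥Gp := ev y wz

theorem z_val : (z : GL I14 (ZMod 3)) = gv wz := coe_ev wz

theorem comm_val {g h : ↥Gp} (e : g * h = h * g) : (g : GL I14 (ZMod 3)) * (h : GL I14 (ZMod 3)) = h * g :=
  congrArg Subtype.val e

theorem ext_gv {g : ↥Gp} {w : List ℕ} (h : (g : GL I14 (ZMod 3)) = gv w) : g = ev y w := by
  apply Subtype.ext
  exact h.trans (coe_ev w).symm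

theorem cent_aux {g : GL I14 (ZMod 3)} (hg : g ∈ Gp) (hc : g * gv wz = gv wz * g) :
    ∃ u n v : GL I14 (ZMod 3), u ∈ chevG2.posUnipotent (ZMod 3) ∧ n ∈ chevG2.monomialSubgroup (ZMod 3) ∧
      v ∈ chevG2.posUnipotent (ZMod 3) ∧
      g = u * n * v ∧ u * gv wz = gv wz * u ∧ n * gv wz = gv wz * n ∧ v * gv wz = gv wz * v := by
  obtain ⟨u, hu, n, hn, v, hv, h⟩ := ChevCent.exists_cent hD z_mem_diagonal hg hc
  exact ⟨u, n, v, hu, hn, hv, h⟩

theorem cent {g : ↥Gp} (hg : g * z = z * g) : ∃ a d : Fin 3, ∃ i ∈ NZ, ∃ a' d' a'' d'' : Fin 3,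
    g = ev y (wx 6 a.val ++ wx 9 d.val) * ev y (NL.getD i []) * ev y (wx 6 a'.val ++ wx 9 d'.val) ∧
    ev y (wx 6 a'.val ++ wx 9 d'.val) * ev y (wx 6 a.val ++ wx 9 d.val) = ev y (wx 6 a''.val ++ wx 9 d''.val) := by
  have hg' : (g : GL I14 (ZMod 3)) * gv wz = gv wz * g := by
    rw [← z_val]
    exact comm_val hg
  obtain ⟨u, n, v, hu, hn, hv, e, h1, h2, h3⟩ := cent_aux g.2 hg'
  have h5 : v * u * gv wz = gv wz * (v * u) := by
    rw [mul_assoc, h1, ← mul_assoc, h3, mul_assoc]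
  obtain ⟨a'', d'', h4⟩ := pos_cent (Subgroup.mul_mem _ hv hu) h5
  obtain ⟨a, d, rfl⟩ := pos_cent hu h1
  obtain ⟨i, hi, rfl⟩ := mono_cent hn h2
  obtain ⟨a', d', rfl⟩ := pos_cent hv h3
  refine ⟨a, d, i, hi, a', d', a'', d'', ?_, ?_⟩
  · rw [← ev_append, ← ev_append]
    apply ext_gv
    rw [gv_append, gv_append]
    exact e
  · rw [← ev_append]
    apply ev_of_gv
    rw [gv_append]
    exact h4

/-! ### The 2-subgroups -/

/-- the subgroup generated by the first `m` generators -/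
def PS (m : ℕ) : Subgroup ↥Gp := Subgroup.closure {x | ∃ k < m, x = ev y (PG.getD k [])}

/-- the listed elements -/
def pe (i : ℕ) : ↥Gp := ev y (ex (PW.getD i []))

theorem pe_zero : pe 0 = 1 := by
  unfold pe
  rw [PW_zero]
  rfl

theorem ex_mem {m : ℕ} (w : List ℕ) (h : ∀ k ∈ w, k < m) : ev y (ex w) ∈ PS m := by
  induction w with
  | nil => exact Subgroup.one_mem _
  | cons k w ih =>
    have : ex (k :: w) = PG.getD k [] ++ ex w := List.flatMap_cons ..
    rw [this, ev_append]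
    refine Subgroup.mul_mem _ ?_ (ih fun j hj => h j (List.mem_cons_of_mem _ hj))
    exact Subgroup.subset_closure ⟨k, h k (List.mem_cons_self ..), rfl⟩

theorem exists_P {x : ↥Gp} (hx : x ∈ PS 5) : ∃ i < 64, x = pe i := by
  refine exists_of_stR (by norm_num) pe_zero ?_
  refine (Subgroup.closure_le _).2 ?_ hx
  rintro _ ⟨k, hk, rfl⟩ i hi
  obtain ⟨h1, h2⟩ := PT_check i hi k hk
  refine ⟨_, h1, ?_⟩
  show ev y _ * ev y _ = ev y _
  rw [← ev_append]
  exact eq_of_eqc h2

theorem exists_Q {x : ↥Gp} (hx : x ∈ PS 4) : ∃ i < 32, x = pe i := by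
  refine exists_of_stR (by norm_num) pe_zero ?_
  refine (Subgroup.closure_le _).2 ?_ hx
  rintro _ ⟨k, hk, rfl⟩ i hi
  obtain ⟨-, h2⟩ := PT_check i (by omega) k (by omega)
  refine ⟨_, PT_check4 i hi k hk, ?_⟩
  show ev y _ * ev y _ = ev y _
  rw [← ev_append]
  exact eq_of_eqc h2

theorem pe_pow {i : ℕ} (hi : i < 64) : pe i ^ 2 ^ 3 = 1 := by
  have h := eq_of_eqc (PW_eight i hi)
  simp only [ev_append, ev_nil] at h
  calc pe i ^ 2 ^ 3 = pe i * (pe i * (pe i * (pe i * (pe i * (pe i * (pe i * pe i)))))) := by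
        rw [show (2 : ℕ) ^ 3 = 8 by norm_num]
        simp only [pow_succ, pow_zero, one_mul, mul_assoc]
    _ = 1 := h

theorem isPGroup_P : IsPGroup 2 ↥(PS 5) := by
  rintro ⟨x, hx⟩
  obtain ⟨i, hi, rfl⟩ := exists_P hx
  exact ⟨3, Subtype.ext (pe_pow hi)⟩

theorem isPGroup_Q : IsPGroup 2 ↥(PS 4) := by
  rintro ⟨x, hx⟩
  obtain ⟨i, hi, rfl⟩ := exists_Q hx
  exact ⟨3, Subtype.ext (pe_pow (by omega))⟩

theorem pe_inj {i j : ℕ} (hi : i < 64) (hj : j < 64) (h : pe i = pe j) : i = j := by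
  have h1 : PR.getD i 0 = PR.getD j 0 := by
    rw [← PW_rr i hi, ← PW_rr j hj]
    exact rr_congr h
  rcases lt_trichotomy i j with h2 | h2 | h2
  · exact absurd h1.symm (PR_inj j hj i h2)
  · exact h2
  · exact absurd h1 (PR_inj i hi j h2)

instance : Finite ↥Gp := Finite.of_injective (fun g : ↥Gp => ((g : GL I14 (ZMod 3)) : Matrix I14 I14 (ZMod 3)))
  (fun _ _ h => Subtype.ext (Units.ext h))

theorem card_P : 64 ≤ Nat.card ↥(PS 5) := by
  have h : Nat.card (Fin 64) ≤ Nat.card ↥(PS 5) := by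
    refine Nat.card_le_card_of_injective
      (fun i : Fin 64 => (⟨pe i.val, ex_mem _ (PW_lt i.val i.2)⟩ : ↥(PS 5))) ?_
    intro i j h
    exact Fin.ext (pe_inj i.2 j.2 (congrArg Subtype.val h))
  simpa using h

theorem card_G : Nat.card ↥Gp = 2 ^ 6 * 66339 := by
  have h := Cfsg.Agent.S1059.result (F := ZMod 3) (q := 3) (by decide)
  exact h.trans (by norm_num)

/-- Every involution is conjugate to `z`. -/
theorem exists_conj {t : ↥Gp} (ht : orderOf t = 2) : ∃ c : ↥Gp, c * t * c⁻¹ = z := by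
  have hf : Fact (Nat.Prime 2) := ⟨Nat.prime_two⟩
  obtain ⟨S, hS⟩ := isPGroup_P.exists_le_sylow
  have hcS : Nat.card ↥(S : Subgroup ↥Gp) ≤ 64 := by
    obtain ⟨k, hk⟩ := IsPGroup.iff_card.mp S.isPGroup'
    have h1 : Nat.card ↥(S : Subgroup ↥Gp) ∣ 2 ^ 6 * 66339 := card_G ▸ Subgroup.card_subgroup_dvd_card _
    have hk' : Nat.card ↥(S : Subgroup ↥Gp) = 2 ^ k := hk
    rw [hk'] at h1 ⊢
    have h2 : 2 ^ k ∣ 2 ^ 6 := by
      refine Nat.Coprime.dvd_of_dvd_mul_right ?_ h1
      exact Nat.Coprime.pow_left _ (by decide)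
    exact Nat.le_of_dvd (by norm_num) h2
  have hPS : PS 5 = (S : Subgroup ↥Gp) := Subgroup.eq_of_le_of_card_ge hS (hcS.trans card_P)
  have ht2 : IsPGroup 2 ↥(Subgroup.zpowers t) := by
    refine IsPGroup.of_card (n := 1) ?_
    rw [Nat.card_zpowers, ht, pow_one]
  obtain ⟨T, hT⟩ := ht2.exists_le_sylow
  obtain ⟨g, hg⟩ := MulAction.exists_smul_eq ↥Gp T S
  have h1 : g * t * g⁻¹ ∈ PS 5 := by
    rw [hPS, ← hg]
    have : t ∈ (T : Subgroup ↥Gp) := hT (Subgroup.mem_zpowers t)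
    exact Subgroup.smul_mem_pointwise_smul t (MulAut.conj g) _ this
  obtain ⟨i, hi, e⟩ := exists_P h1
  have h2 : g * t * g⁻¹ ≠ 1 := by
    intro h
    rw [conj_eq_one_iff] at h
    rw [h, orderOf_one] at ht
    omega
  have h3 : (g * t * g⁻¹) * (g * t * g⁻¹) = 1 := by
    have h5 : t * t = 1 := by
      have := pow_orderOf_eq_one t
      rwa [ht, pow_two] at this
    calc (g * t * g⁻¹) * (g * t * g⁻¹) = g * (t * t) * g⁻¹ := by group
      _ = 1 := by rw [h5, mul_one, mul_inv_cancel]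
  rcases PW_inv i hi with rfl | h | h
  · exact absurd (e.trans pe_zero) h2
  · refine absurd ?_ (ne_of_nec h)
    rw [ev_append]
    rw [e] at h3
    exact h3
  · refine ⟨ev y (PC.getD i []) * g, ?_⟩
    have h4 := eq_of_eqc h
    rw [ev_append, ev_append] at h4
    have h5 : ev y (ex (PW.getD i [])) = g * t * g⁻¹ := e.symm
    rw [h5] at h4
    calc ev y (PC.getD i []) * g * t * (ev y (PC.getD i []) * g)⁻¹
        = (ev y (PC.getD i []) * (g * t * g⁻¹)) * (ev y (PC.getD i []))⁻¹ := by group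
      _ = z := by rw [h4, mul_inv_cancel_right]; rfl

/-! ### `z` is good -/

/-- the elements normalising `O₂(C(z))` -/
def Norm (g : ↥Gp) : Prop := ∀ x ∈ PS 4, g * x * g⁻¹ ∈ PS 4

theorem norm_mul {g h : ↥Gp} (hg : Norm g) (hh : Norm h) : Norm (g * h) := by
  intro x hx
  have := hg _ (hh x hx)
  have e : g * (h * x * h⁻¹) * g⁻¹ = g * h * x * (g * h)⁻¹ := by group
  rwa [e] at this

theorem norm_one : Norm (1 : ↥Gp) := by
  intro x hx
  rwa [one_mul, inv_one, mul_one]

theorem norm_NG {i : ℕ} (hi : i < 20) : Norm (ev y (NG.getD i [])) := by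
  refine norm_closure ?_
  rintro _ ⟨k, hk, rfl⟩
  obtain ⟨h1, h2⟩ := QT_check i hi k hk
  have h3 := eq_of_eqc h2
  rw [ev_append, ev_append] at h3
  rw [h3, mul_inv_cancel_right]
  exact ex_mem _ (PW_lt4 _ h1)

theorem norm_pos (a d : Fin 3) : Norm (ev y (wx 6 a.val ++ wx 9 d.val)) := by
  rw [ev_append]
  refine norm_mul ?_ ?_
  · rcases NG_wx6 a.val a.2 with h | ⟨k, hk, h⟩ <;> rw [h]
    · rw [ev_nil]; exact norm_one
    · exact norm_NG hk
  · rcases NG_wx9 d.val d.2 with h | ⟨k, hk, h⟩ <;> rw [h]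
    · rw [ev_nil]; exact norm_one
    · exact norm_NG hk

theorem norm_NL {i : ℕ} (hi : i ∈ NZ) : Norm (ev y (NL.getD i [])) := by
  obtain ⟨k, hk, e⟩ := NG_check i hi
  rw [e]
  exact norm_NG hk

theorem good_z : Crit.Good z := by
  refine ⟨PS 4, isPGroup_Q, ?_, ?_⟩
  · intro g hg
    obtain ⟨a, d, i, hi, a', d', -, -, rfl, -⟩ := cent hg
    exact norm_mul (norm_mul (norm_pos a d) (norm_NL hi)) (norm_pos a' d')
  · intro g hg hgQ hodd
    obtain ⟨a, d, i, hi, a', d', a'', d'', rfl, e⟩ := cent hg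
    set u := ev y (wx 6 a.val ++ wx 9 d.val) with hu
    set n := ev y (NL.getD i []) with hn
    set v := ev y (wx 6 a'.val ++ wx 9 d'.val) with hv
    have e1 : u⁻¹ * (u * n * v) * u = ev y (NL.getD i [] ++ (wx 6 a''.val ++ wx 9 d''.val)) := by
      rw [ev_append, ← e, ← hn]
      group
    have hodd' : Odd (orderOf (u⁻¹ * (u * n * v) * u)) := by
      have e2 : u⁻¹ * (u * n * v) * u = MulAut.conj u⁻¹ (u * n * v) := by
        show _ = u⁻¹ * (u * n * v) * u⁻¹⁻¹
        rw [inv_inv]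
      rw [e2, MulEquiv.orderOf_eq]
      exact hodd
    have hcomm : ∀ k < 4, (u⁻¹ * (u * n * v) * u) * ev y (PG.getD k []) =
        ev y (PG.getD k []) * (u⁻¹ * (u * n * v) * u) := by
      intro k hk
      have h1 : ev y (PG.getD k []) ∈ PS 4 := Subgroup.subset_closure ⟨k, hk, rfl⟩
      have h2 := hgQ _ (norm_pos a d _ h1)
      rw [← hu] at h2
      calc (u⁻¹ * (u * n * v) * u) * ev y (PG.getD k [])
          = u⁻¹ * (u * n * v * (u * ev y (PG.getD k []) * u⁻¹)) * u := by group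
        _ = u⁻¹ * (u * ev y (PG.getD k []) * u⁻¹ * (u * n * v)) * u := by rw [h2]
        _ = _ := by group
    have h1 : u⁻¹ * (u * n * v) * u = 1 := by
      rw [e1] at hcomm hodd' ⊢
      rcases C_check i hi a''.val a''.2 d''.val d''.2 with ⟨k, hk, h⟩ | h
      · refine absurd ?_ (ne_of_nec h)
        rw [ev_append, ev_append y (PG.getD k [])]
        exact hcomm k hk
      · have h2 := eq_of_eqc h
        rw [ev_append, ev_nil] at h2
        have h3 : orderOf (ev y (NL.getD i [] ++ (wx 6 a''.val ++ wx 9 d''.val))) ∣ 2 :=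
          orderOf_dvd_of_pow_eq_one (by rw [pow_two]; exact h2)
        rcases (Nat.dvd_prime Nat.prime_two).mp h3 with h4 | h4
        · exact orderOf_eq_one_iff.mp h4
        · rw [h4] at hodd'
          exact absurd hodd' (by decide)
    have h2 : u * n * v = u * (u⁻¹ * (u * n * v) * u) * u⁻¹ := by group
    rw [h2, h1, mul_one, mul_inv_cancel]

theorem isCharacteristicTwoType : IsCharacteristicTwoType ↥Gp := by
  refine Crit.isCharacteristicTwoType ?_ fun t ht => ?_
  · rw [card_G]; decide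
  · obtain ⟨c, hc⟩ := exists_conj ht
    have h := Crit.good_conj good_z c⁻¹
    have e : c⁻¹ * z * c⁻¹⁻¹ = t := by rw [← hc]; group
    rwa [e] at h

/-- **`G₂(3)` is of characteristic 2 type.** -/
theorem g23 (F : Type) [Field F] [Fintype F] (hF : Fintype.card F = 3) :
    IsCharacteristicTwoType ↥(chevG2.group F) := by
  have h3 : Fintype.card (ZMod 3) = Fintype.card F := by rw [hF]; rfl
  let φ : ZMod 3 ≃+* F := FiniteField.ringEquivOfCardEq h3
  exact Generic.isCharacteristicTwoType_congr (FieldIso.groupEquiv chevG2 φ) isCharacteristicTwoType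

end Cfsg.Agent.OddHalf.Small.G23

end
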