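import Cfsg.Agent.OddHalf.Small.Crit
import Cfsg.Agent.OddHalf.Small.Generic
import Cfsg.Agent.SmallSimple.S1000.Order25920PSp
import Cfsg.Agent.ClassicalGeometry.SympInvolutions
import Cfsg.Agent.LieClassical.FieldTransfer
set_option linter.all false

/-!
# `PSp₄(3)` is of characteristic `2` type
-/

set_option autoImplicit false
set_option linter.style.haveILetI false

namespace Cfsg.Agent.OddHalf.Small.PSp43

open Matrix Subgroup Cfsg
open Cfsg.Agent.Lib.FieldThree (F3)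
open Cfsg.Agent.SmallSimple.S1000.Order25920PSp (Mat Sp π π_mul π_one π_eq m1 m2 m3 m4)
open Cfsg.Agent.OddHalf.Small.Crit (Good good_iff_of_isConj good_map isCharacteristicTwoType)

/-! ### The projection -/

theorem eq_or_of_π_eq {x y : Sp} (h : π x = π y) : (x : Mat) = (y : Mat) ∨ (x : Mat) = -(y : Mat) := by
  have h1 : x⁻¹ * y ∈ Subgroup.center Sp := (QuotientGroup.eq).1 h
  rcases Cfsg.Agent.ClassicalGeometry.SympInvolutions.center_eq h1 with h2 | h2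
  · left
    have h3 : y = x * (x⁻¹ * y) := by group
    have h4 := congrArg (Subtype.val) h3
    change (y : Mat) = (x : Mat) * ((x⁻¹ * y : Sp) : Mat) at h4
    rw [h2, mul_one] at h4
    exact h4.symm
  · right
    have h3 : y = x * (x⁻¹ * y) := by group
    have h4 := congrArg (Subtype.val) h3
    change (y : Mat) = (x : Mat) * ((x⁻¹ * y : Sp) : Mat) at h4
    rw [h2, mul_neg, mul_one] at h4
    rw [h4, neg_neg]

theorem comm_or {x y : Sp} (h : π x * π y = π y * π x) :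
    (x : Mat) * y = y * x ∨ (x : Mat) * y = -((y : Mat) * x) := by
  rw [← π_mul, ← π_mul] at h
  exact eq_or_of_π_eq h

theorem pow_four' {G : Type*} [Group G] (g : G) : g ^ 4 = (g * g) * (g * g) := by
  rw [show (4 : ℕ) = 2 + 2 from rfl, pow_add, pow_two]

/-- Squares commute on the nose. -/
theorem sq_comm {x y : Mat} (h : x * y = y * x ∨ x * y = -(y * x)) : x * x * y = y * (x * x) := by
  rcases h with h | h
  · rw [mul_assoc, h, ← mul_assoc, h, mul_assoc]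
  · rw [mul_assoc, h, mul_neg, ← mul_assoc, h, neg_mul, neg_neg, mul_assoc]

theorem eq_one_of_pow {G : Type*} [Group G] {y : G} (h : y ^ 16 = 1) (ho : Odd (orderOf y)) : y = 1 := by
  have h1 : orderOf y ∣ 2 ^ 4 := orderOf_dvd_of_pow_eq_one h
  have h2 : Nat.Coprime (orderOf y) (2 ^ 4) := (ho.coprime_two_right).pow_right 4
  rw [← orderOf_eq_one_iff]
  exact Nat.dvd_one.mp (h2 ▸ Nat.dvd_gcd dvd_rfl h1)

/-! ### First class: eigenvalues `1, -1` -/

/-- Block matrices. -/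
def bm (a b c d : Fin 2 → F3) : Mat := fromBlocks (diagonal a) (diagonal b) (diagonal c) (diagonal d)

theorem bm_mul (a b c d a' b' c' d' : Fin 2 → F3) :
    bm a b c d * bm a' b' c' d' =
      bm (a * a' + b * c') (a * b' + b * d') (c * a' + d * c') (c * b' + d * d') := by
  unfold bm
  rw [fromBlocks_multiply]
  simp only [diagonal_mul_diagonal', diagonal_add]
  rfl

theorem bm_inj {a b c d a' b' c' d' : Fin 2 → F3} (h : bm a b c d = bm a' b' c' d') :
    a = a' ∧ b = b' ∧ c = c' ∧ d = d' := by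
  unfold bm at h
  rw [fromBlocks_inj] at h
  exact ⟨diagonal_injective h.1, diagonal_injective h.2.1, diagonal_injective h.2.2.1,
    diagonal_injective h.2.2.2⟩

theorem m3_eq : (m3 : Mat) = bm ![1, -1] 0 0 ![1, -1] := by decide +kernel

theorem one_eq : (1 : Mat) = bm 1 0 0 1 := by decide +kernel

theorem sgn_ne : ∀ i j : Fin 2, i ≠ j → (![(1 : F3), -1] : Fin 2 → F3) i ≠ ![(1 : F3), -1] j := by
  decide

theorem eq_zero_of_ne : ∀ u v w : F3, w * v = u * w → u ≠ v → w = 0 := by decide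

theorem exists_bm {g : Mat} (h : g * (m3 : Mat) = (m3 : Mat) * g) : ∃ a b c d, g = bm a b c d := by
  have key : ∀ i j : Fin 2 ⊕ Fin 2, (Sum.elim ![(1 : F3), -1] ![1, -1] i) ≠
      (Sum.elim ![(1 : F3), -1] ![1, -1] j) → g i j = 0 := by
    intro i j hij
    have hd : (m3 : Mat) = diagonal (Sum.elim ![(1 : F3), -1] ![1, -1]) := by decide +kernel
    rw [hd] at h
    have h1 := congrFun (congrFun h i) j
    rw [mul_diagonal, diagonal_mul] at h1
    exact eq_zero_of_ne _ _ _ h1 hij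
  refine ⟨fun i => g (.inl i) (.inl i), fun i => g (.inl i) (.inr i),
    fun i => g (.inr i) (.inl i), fun i => g (.inr i) (.inr i), ?_⟩
  ext i j
  unfold bm
  rcases i with i | i <;> rcases j with j | j
  · rw [fromBlocks_apply₁₁, diagonal_apply]
    by_cases hij : i = j
    · subst hij; rw [if_pos rfl]
    · rw [if_neg hij]; exact key _ _ (sgn_ne i j hij)
  · rw [fromBlocks_apply₁₂, diagonal_apply]
    by_cases hij : i = j
    · subst hij; rw [if_pos rfl]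
    · rw [if_neg hij]; exact key _ _ (sgn_ne i j hij)
  · rw [fromBlocks_apply₂₁, diagonal_apply]
    by_cases hij : i = j
    · subst hij; rw [if_pos rfl]
    · rw [if_neg hij]; exact key _ _ (sgn_ne i j hij)
  · rw [fromBlocks_apply₂₂, diagonal_apply]
    by_cases hij : i = j
    · subst hij; rw [if_pos rfl]
    · rw [if_neg hij]; exact key _ _ (sgn_ne i j hij)

theorem bm_transpose (a b c d : Fin 2 → F3) : (bm a b c d)ᵀ = bm a c b d := by
  unfold bm
  rw [fromBlocks_transpose, diagonal_transpose, diagonal_transpose, diagonal_transpose,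
    diagonal_transpose]

theorem J_eq : (Matrix.J (Fin 2) F3) = bm 0 (-1) 1 0 := by decide +kernel

theorem det_of_mem {a b c d : Fin 2 → F3} (h : bm a b c d ∈ Matrix.symplecticGroup (Fin 2) F3) (i : Fin 2) :
    a i * d i - b i * c i = 1 := by
  rw [SymplecticGroup.mem_iff, J_eq, bm_transpose, bm_mul, bm_mul] at h
  have h1 := congrFun (bm_inj h).2.2.1 i
  simp only [Pi.add_apply, Pi.mul_apply, Pi.zero_apply, Pi.one_apply, Pi.neg_apply] at h1
  linear_combination h1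

/-- The elements of the quaternion group of order `8` in `SL₂(3)`. -/
def R (a b c d : F3) : Prop := a * d - b * c = 1 ∧ (a + d = 0 ∨ (b = 0 ∧ c = 0))

instance (a b c d : F3) : Decidable (R a b c d) := by unfold R; infer_instance

theorem R_mul : ∀ a b c d a' b' c' d' : F3, R a b c d → R a' b' c' d' →
    R (a * a' + b * c') (a * b' + b * d') (c * a' + d * c') (c * b' + d * d') := by
  decide +kernel

theorem R_conj : ∀ a b c d a' b' c' d' : F3, a * d - b * c = 1 → R a' b' c' d' →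
    R ((a * a' + b * c') * d + (a * b' + b * d') * (-c)) ((a * a' + b * c') * (-b) + (a * b' + b * d') * a)
      ((c * a' + d * c') * d + (c * b' + d * d') * (-c)) ((c * a' + d * c') * (-b) + (c * b' + d * d') * a) := by
  decide +kernel

theorem R_four : ∀ a b c d : F3, R a b c d →
    ((a * a + b * c) * (a * a + b * c) + (a * b + b * d) * (c * a + d * c) = 1 ∧
      (a * a + b * c) * (a * b + b * d) + (a * b + b * d) * (c * b + d * d) = 0) ∧
    ((c * a + d * c) * (a * a + b * c) + (c * b + d * d) * (c * a + d * c) = 0 ∧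
      (c * a + d * c) * (a * b + b * d) + (c * b + d * d) * (c * b + d * d) = 1) := by
  decide +kernel

theorem R_inv : ∀ a b c d : F3, R a b c d → R d (-b) (-c) a := by decide +kernel

theorem inv_eq_of_mul {g : Sp} {X : Mat} (h : (g : Mat) * X = 1) : ((g⁻¹ : Sp) : Mat) = X := by
  have h1 : ((g⁻¹ : Sp) : Mat) * (g : Mat) = 1 := congrArg Subtype.val (inv_mul_cancel g)
  calc ((g⁻¹ : Sp) : Mat) = ((g⁻¹ : Sp) : Mat) * ((g : Mat) * X) := by rw [h, mul_one]
    _ = X := by rw [← mul_assoc, h1, one_mul]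

theorem bm_mul_inv {a b c d : Fin 2 → F3} (h : ∀ i, a i * d i - b i * c i = 1) :
    bm a b c d * bm d (-b) (-c) a = 1 := by
  rw [bm_mul, one_eq]
  congr 1
  · funext i
    have := h i
    simp only [Pi.add_apply, Pi.mul_apply, Pi.neg_apply, Pi.one_apply]
    linear_combination this
  · funext i
    simp only [Pi.add_apply, Pi.mul_apply, Pi.neg_apply, Pi.zero_apply]
    ring
  · funext i
    simp only [Pi.add_apply, Pi.mul_apply, Pi.neg_apply, Pi.zero_apply]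
    ring
  · funext i
    have := h i
    simp only [Pi.add_apply, Pi.mul_apply, Pi.neg_apply, Pi.one_apply]
    linear_combination this

/-- The group `Q₈ × Q₈`. -/
def Qa : Subgroup Sp where
  carrier := {g | ∃ a b c d : Fin 2 → F3, (g : Mat) = bm a b c d ∧ ∀ i, R (a i) (b i) (c i) (d i)}
  one_mem' := ⟨1, 0, 0, 1, one_eq, fun i => by decide +revert⟩
  mul_mem' := by
    rintro g h ⟨a, b, c, d, hg, hR⟩ ⟨a', b', c', d', hg', hR'⟩
    refine ⟨_, _, _, _, ?_, fun i => R_mul _ _ _ _ _ _ _ _ (hR i) (hR' i)⟩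
    show (g : Mat) * h = _
    rw [hg, hg', bm_mul]
    rfl
  inv_mem' := by
    rintro g ⟨a, b, c, d, hg, hR⟩
    refine ⟨d, -b, -c, a, inv_eq_of_mul ?_, fun i => R_inv _ _ _ _ (hR i)⟩
    rw [hg]
    exact bm_mul_inv fun i => (hR i).1

theorem Qa_four {g : Sp} (h : g ∈ Qa) : g ^ 4 = 1 := by
  obtain ⟨a, b, c, d, hg, hR⟩ := h
  apply Subtype.ext
  have h1 : ((g ^ 4 : Sp) : Mat) = ((g : Mat) * g) * ((g : Mat) * g) := by
    rw [pow_four']; rfl
  rw [h1, hg, bm_mul, bm_mul]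
  show _ = (1 : Mat)
  rw [one_eq]
  congr 1
  · funext i; exact (R_four _ _ _ _ (hR i)).1.1
  · funext i; exact (R_four _ _ _ _ (hR i)).1.2
  · funext i; exact (R_four _ _ _ _ (hR i)).2.1
  · funext i; exact (R_four _ _ _ _ (hR i)).2.2

/-- The projection as a homomorphism. -/
def πh : Sp →* PSp 2 F3 := QuotientGroup.mk' _

theorem πh_apply (x : Sp) : πh x = π x := rfl

theorem isPGroup_map {Q : Subgroup Sp} (h : ∀ g ∈ Q, g ^ 4 = 1) : IsPGroup 2 (Q.map πh) := by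
  rintro ⟨_, g, hg, rfl⟩
  refine ⟨2, Subtype.ext ?_⟩
  show (πh g) ^ 2 ^ 2 = 1
  rw [← map_pow]
  show πh (g ^ 4) = 1
  rw [h g hg, map_one]

theorem Qa_conj {g : Sp} (h : (g : Mat) * m3 = m3 * (g : Mat)) {x : Sp} (hx : x ∈ Qa) :
    g * x * g⁻¹ ∈ Qa := by
  obtain ⟨a, b, c, d, hg⟩ := exists_bm h
  obtain ⟨a', b', c', d', hx', hR⟩ := hx
  have hdet : ∀ i, a i * d i - b i * c i = 1 := det_of_mem (hg ▸ g.2)
  have hinv : ((g⁻¹ : Sp) : Mat) = bm d (-b) (-c) a := inv_eq_of_mul (by rw [hg]; exact bm_mul_inv hdet)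
  refine ⟨_, _, _, _, ?_, fun i => R_conj _ _ _ _ _ _ _ _ (hdet i) (hR i)⟩
  show (g : Mat) * x * ((g⁻¹ : Sp) : Mat) = _
  rw [hg, hx', hinv, bm_mul, bm_mul]
  rfl

/-- The transposition matrix. -/
def Pm : Matrix (Fin 2) (Fin 2) F3 := !![0, 1; 1, 0]

theorem P_conj (a : Fin 2 → F3) : Pm * diagonal a * Pm = diagonal ![a 1, a 0] := by
  ext i j
  fin_cases i <;> fin_cases j <;>
    (simp [Pm, Matrix.mul_apply, Fin.sum_univ_two, diagonal]; rfl)

theorem m4_eq : (m4 : Mat) = fromBlocks Pm 0 0 Pm := by decide +kernel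

theorem m4_conj (a b c d : Fin 2 → F3) :
    (m4 : Mat) * bm a b c d * m4 = bm ![a 1, a 0] ![b 1, b 0] ![c 1, c 0] ![d 1, d 0] := by
  rw [m4_eq]
  unfold bm
  rw [fromBlocks_multiply, fromBlocks_multiply]
  simp only [Matrix.zero_mul, Matrix.mul_zero, add_zero, zero_add, P_conj]

theorem m4_inv : ((m4⁻¹ : Sp) : Mat) = m4 := inv_eq_of_mul (by decide +kernel)

theorem m4_inv' : m4⁻¹ = m4 := Subtype.ext m4_inv

theorem Qa_conj_m4 {x : Sp} (hx : x ∈ Qa) : m4 * x * m4⁻¹ ∈ Qa := by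
  obtain ⟨a, b, c, d, hx', hR⟩ := hx
  refine ⟨![a 1, a 0], ![b 1, b 0], ![c 1, c 0], ![d 1, d 0], ?_, fun i => ?_⟩
  · show (m4 : Mat) * x * ((m4⁻¹ : Sp) : Mat) = _
    rw [hx', m4_inv]
    exact m4_conj a b c d
  · fin_cases i
    · exact hR 1
    · exact hR 0

theorem m43 : (m4 : Mat) * m3 = -((m3 : Mat) * m4) := by decide +kernel

theorem Qa_normal {h x : PSp 2 F3} (hh : h * π m3 = π m3 * h) (hx : x ∈ Qa.map πh) :
    h * x * h⁻¹ ∈ Qa.map πh := by
  obtain ⟨g, rfl⟩ := QuotientGroup.mk_surjective h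
  obtain ⟨y, hy, rfl⟩ := hx
  have key : g * y * g⁻¹ ∈ Qa := by
    rcases comm_or (x := g) (y := m3) hh with h1 | h1
    · exact Qa_conj h1 hy
    · have h2 : ((m4 * g : Sp) : Mat) * m3 = m3 * ((m4 * g : Sp) : Mat) := by
        show (m4 : Mat) * g * m3 = m3 * (m4 * g)
        rw [mul_assoc, h1, mul_neg, ← mul_assoc, m43, neg_mul, neg_neg, mul_assoc]
      have h3 := Qa_conj_m4 (Qa_conj h2 hy)
      have h4 : m4 * (m4 * g * y * (m4 * g)⁻¹) * m4⁻¹ = (m4 * m4) * (g * y * g⁻¹) * (m4 * m4)⁻¹ := by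
        group
      have h5 : m4 * m4 = 1 := by
        nth_rw 1 [← m4_inv']
        exact inv_mul_cancel _
      rwa [h4, h5, one_mul, inv_one, mul_one] at h3
  exact ⟨_, key, rfl⟩

theorem comm_scalar : ∀ a b c d : F3,
    a * 0 + b * 1 = 0 * a + (-1) * c → a * (-1) + b * 0 = 0 * b + (-1) * d →
    a * 1 + b * 1 = 1 * a + 1 * c → a * 1 + b * (-1) = 1 * b + 1 * d → b = 0 ∧ c = 0 ∧ a = d := by
  decide +kernel

theorem m1_eq : (m1 : Mat) = bm 0 (-1) 1 0 := by decide +kernel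
theorem m2_eq : (m2 : Mat) = bm 1 1 1 (-1) := by decide +kernel

theorem m1_mem : m1 ∈ Qa := ⟨0, -1, 1, 0, m1_eq, fun i => by decide +revert⟩
theorem m2_mem : m2 ∈ Qa := ⟨1, 1, 1, -1, m2_eq, fun i => by decide +revert⟩

theorem sq_one_of_comm {h : Sp} (h3 : (h : Mat) * m3 = m3 * (h : Mat))
    (h1 : (h : Mat) * m1 = m1 * (h : Mat)) (h2 : (h : Mat) * m2 = m2 * (h : Mat)) :
    (h : Mat) * h = 1 := by
  obtain ⟨a, b, c, d, hh⟩ := exists_bm h3
  have hdet : ∀ i, a i * d i - b i * c i = 1 := det_of_mem (hh ▸ h.2)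
  rw [hh, m1_eq, bm_mul, bm_mul] at h1
  rw [hh, m2_eq, bm_mul, bm_mul] at h2
  obtain ⟨e1, e2, -, -⟩ := bm_inj h1
  obtain ⟨f1, f2, -, -⟩ := bm_inj h2
  have key : ∀ i, b i = 0 ∧ c i = 0 ∧ a i = d i := fun i =>
    comm_scalar _ _ _ _ (congrFun e1 i) (congrFun e2 i) (congrFun f1 i) (congrFun f2 i)
  rw [hh, bm_mul, one_eq]
  congr 1 <;> funext i <;> obtain ⟨hb, hc, ha⟩ := key i <;> have hd := hdet i <;>
    simp only [Pi.add_apply, Pi.mul_apply, Pi.zero_apply, Pi.one_apply] <;>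
    rw [hb, hc] at * <;> simp_all

theorem good_a : Good (π m3) := by
  refine ⟨Qa.map πh, isPGroup_map fun g hg => Qa_four hg, fun g hg x hx => Qa_normal hg hx, ?_⟩
  intro y hy hyx ho
  obtain ⟨g, rfl⟩ := QuotientGroup.mk_surjective y
  have c3 := sq_comm (comm_or (x := g) (y := m3) hy)
  have c1 := sq_comm (comm_or (x := g) (y := m1) (hyx _ ⟨m1, m1_mem, rfl⟩))
  have c2 := sq_comm (comm_or (x := g) (y := m2) (hyx _ ⟨m2, m2_mem, rfl⟩))
  have h4 := sq_one_of_comm (h := g * g) c3 c1 c2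
  have h5 : g ^ 4 = 1 := by
    apply Subtype.ext
    rw [pow_four']; exact h4
  refine eq_one_of_pow ?_ ho
  show (πh g) ^ 16 = 1
  rw [← map_pow]
  have h6 : g ^ 16 = (g ^ 4) ^ 4 := by group
  rw [h6, h5, one_pow, map_one]

/-! ### Second class: square `-1` -/

/-- Two by two matrices over the field with nine elements, by coordinates. -/
@[ext] structure T8 where
  p0 : F3
  p1 : F3
  q0 : F3
  q1 : F3
  r0 : F3
  r1 : F3
  s0 : F3
  s1 : F3
  deriving DecidableEq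

/-- Product. -/
def T8.mul (x y : T8) : T8 where
  p0 := x.p0 * y.p0 - x.p1 * y.p1 + (x.q0 * y.r0 - x.q1 * y.r1)
  p1 := x.p0 * y.p1 + x.p1 * y.p0 + (x.q0 * y.r1 + x.q1 * y.r0)
  q0 := x.p0 * y.q0 - x.p1 * y.q1 + (x.q0 * y.s0 - x.q1 * y.s1)
  q1 := x.p0 * y.q1 + x.p1 * y.q0 + (x.q0 * y.s1 + x.q1 * y.s0)
  r0 := x.r0 * y.p0 - x.r1 * y.p1 + (x.s0 * y.r0 - x.s1 * y.r1)
  r1 := x.r0 * y.p1 + x.r1 * y.p0 + (x.s0 * y.r1 + x.s1 * y.r0)
  s0 := x.r0 * y.q0 - x.r1 * y.q1 + (x.s0 * y.s0 - x.s1 * y.s1)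
  s1 := x.r0 * y.q1 + x.r1 * y.q0 + (x.s0 * y.s1 + x.s1 * y.s0)

/-- The real matrix. -/
def T8.mat (x : T8) : Mat :=
  fromBlocks !![x.p0, x.q0; x.r0, x.s0] !![x.p1, x.q1; x.r1, x.s1]
    !![-x.p1, -x.q1; -x.r1, -x.s1] !![x.p0, x.q0; x.r0, x.s0]

set_option linter.unusedSimpArgs false in
theorem T8.mat_mul (x y : T8) : x.mat * y.mat = (x.mul y).mat := by
  unfold T8.mat T8.mul
  rw [fromBlocks_multiply]
  congr 1 <;> ext i j <;> fin_cases i <;> fin_cases j <;>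
    simp [Matrix.mul_apply, Fin.sum_univ_two] <;> ring

/-- The unit. -/
def T8.one : T8 := ⟨1, 0, 0, 0, 0, 0, 1, 0⟩
/-- The scalar `i`. -/
def T8.I : T8 := ⟨0, 1, 0, 0, 0, 0, 0, 1⟩
/-- Minus. -/
def T8.neg (x : T8) : T8 := ⟨-x.p0, -x.p1, -x.q0, -x.q1, -x.r0, -x.r1, -x.s0, -x.s1⟩

theorem T8.mat_one : T8.one.mat = 1 := by decide +kernel
theorem T8.mat_I : T8.I.mat = -(m1 : Mat) := by decide +kernel

theorem T8.mat_neg (x : T8) : x.neg.mat = -x.mat := by
  unfold T8.mat T8.neg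
  rw [fromBlocks_neg]
  congr 1 <;> ext i j <;> fin_cases i <;> fin_cases j <;> simp

/-- First generator. -/
def t1 : T8 := ⟨0, 1, 0, 0, 0, 0, 0, -1⟩
/-- Second generator. -/
def t2 : T8 := ⟨0, 0, 1, 0, -1, 0, 0, 0⟩
/-- Their product. -/
def t3 : T8 := ⟨0, 0, 0, 1, 0, 1, 0, 0⟩

/-- The quaternion group of order `8`. -/
def L8 : List T8 := [T8.one, T8.one.neg, t1, t1.neg, t2, t2.neg, t3, t3.neg]

theorem L8_mul : ∀ x ∈ L8, ∀ y ∈ L8, x.mul y ∈ L8 := by decide +kernel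

theorem L8_inv : ∀ x ∈ L8, ∃ y ∈ L8, x.mul y = T8.one := by decide +kernel

theorem L8_four : ∀ x ∈ L8, (x.mul x).mul (x.mul x) = T8.one := by decide +kernel

/-- Unitary matrices of square `-1`. -/
theorem unitary_cases : ∀ p0 p1 q0 q1 : F3, p0 * p0 + p1 * p1 + q0 * q0 + q1 * q1 = 1 →
    ∀ r0 r1 s0 s1 : F3, r0 * r0 + r1 * r1 + s0 * s0 + s1 * s1 = 1 →
    p0 * r0 + p1 * r1 + q0 * s0 + q1 * s1 = 0 → p1 * r0 - p0 * r1 + q1 * s0 - q0 * s1 = 0 →
    (⟨p0, p1, q0, q1, r0, r1, s0, s1⟩ : T8).mul ⟨p0, p1, q0, q1, r0, r1, s0, s1⟩ = T8.one.neg →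
    (⟨p0, p1, q0, q1, r0, r1, s0, s1⟩ : T8) = T8.I ∨ (⟨p0, p1, q0, q1, r0, r1, s0, s1⟩ : T8) = T8.I.neg ∨
      (⟨p0, p1, q0, q1, r0, r1, s0, s1⟩ : T8) ∈ L8 := by
  decide +kernel

theorem T8.mat_inj {x y : T8} (h : x.mat = y.mat) : x = y := by
  unfold T8.mat at h
  rw [fromBlocks_inj] at h
  obtain ⟨hA, hB, -, -⟩ := h
  ext
  · exact congrFun (congrFun hA 0) 0
  · exact congrFun (congrFun hB 0) 0
  · exact congrFun (congrFun hA 0) 1
  · exact congrFun (congrFun hB 0) 1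
  · exact congrFun (congrFun hA 1) 0
  · exact congrFun (congrFun hB 1) 0
  · exact congrFun (congrFun hA 1) 1
  · exact congrFun (congrFun hB 1) 1

/-- Unitary. -/
def T8.Un (x : T8) : Prop :=
  x.p0 * x.p0 + x.p1 * x.p1 + x.q0 * x.q0 + x.q1 * x.q1 = 1 ∧
    x.r0 * x.r0 + x.r1 * x.r1 + x.s0 * x.s0 + x.s1 * x.s1 = 1 ∧
    x.p0 * x.r0 + x.p1 * x.r1 + x.q0 * x.s0 + x.q1 * x.s1 = 0 ∧
    x.p1 * x.r0 - x.p0 * x.r1 + x.q1 * x.s0 - x.q0 * x.s1 = 0

theorem exists_t8 {g : Sp} (h : (g : Mat) * m1 = m1 * (g : Mat)) : ∃ x : T8, (g : Mat) = x.mat ∧ x.Un := by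
  obtain ⟨A, B, C, D, hg⟩ : ∃ A B C D, (g : Mat) = fromBlocks A B C D :=
    ⟨_, _, _, _, (fromBlocks_toBlocks _).symm⟩
  have hm : (m1 : Mat) = fromBlocks 0 (-1) 1 0 := by decide +kernel
  have hJ : Matrix.J (Fin 2) F3 = (m1 : Mat) := by decide +kernel
  have h2 := h
  rw [hg, hm, fromBlocks_multiply, fromBlocks_multiply, fromBlocks_inj] at h
  simp only [Matrix.mul_zero, Matrix.mul_one, Matrix.mul_neg, Matrix.zero_mul, Matrix.one_mul,
    Matrix.neg_mul, zero_add, add_zero] at h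
  obtain ⟨hB, hA, -, -⟩ := h
  have hC : C = -B := by rw [hB, neg_neg]
  have hD : D = A := (neg_injective hA).symm
  subst hC hD
  have hs := (SymplecticGroup.mem_iff).1 g.2
  rw [hJ, h2, mul_assoc] at hs
  have hgt : (g : Mat) * (g : Mat)ᵀ = 1 := by
    have h3 : ((m1⁻¹ : Sp) : Mat) * m1 = 1 := congrArg Subtype.val (inv_mul_cancel m1)
    calc (g : Mat) * (g : Mat)ᵀ = ((m1⁻¹ : Sp) : Mat) * (m1 * ((g : Mat) * (g : Mat)ᵀ)) := by
          rw [← mul_assoc, h3, one_mul]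
      _ = 1 := by rw [hs, h3]
  rw [hg, fromBlocks_transpose, fromBlocks_multiply, ← fromBlocks_one, fromBlocks_inj] at hgt
  obtain ⟨e1, e2, -, -⟩ := hgt
  refine ⟨⟨D 0 0, B 0 0, D 0 1, B 0 1, D 1 0, B 1 0, D 1 1, B 1 1⟩, ?_, ?_⟩
  · rw [hg]
    unfold T8.mat
    congr 1 <;> ext i j <;> fin_cases i <;> fin_cases j <;> simp
  · have a1 := congrFun (congrFun e1 0) 0
    have a2 := congrFun (congrFun e1 1) 1
    have a3 := congrFun (congrFun e1 0) 1
    have a4 := congrFun (congrFun e2 0) 1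
    simp only [Matrix.add_apply, Matrix.mul_apply, Fin.sum_univ_two, Matrix.transpose_apply,
      Matrix.neg_apply, Matrix.one_apply, Matrix.zero_apply, Fin.isValue] at a1 a2 a3 a4
    refine ⟨?_, ?_, ?_, ?_⟩
    · simp only [if_true] at a1
      linear_combination a1
    · simp only [if_true] at a2
      linear_combination a2
    · rw [if_neg (by decide)] at a3
      linear_combination a3
    · linear_combination a4

/-- The quaternion group in `Sp`. -/
def Qb : Subgroup Sp where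
  carrier := {g | ∃ x ∈ L8, (g : Mat) = x.mat}
  one_mem' := ⟨T8.one, by decide, T8.mat_one.symm⟩
  mul_mem' := by
    rintro g h ⟨x, hx, hg⟩ ⟨y, hy, hh⟩
    refine ⟨_, L8_mul x hx y hy, ?_⟩
    show (g : Mat) * h = _
    rw [hg, hh, T8.mat_mul]
  inv_mem' := by
    rintro g ⟨x, hx, hg⟩
    obtain ⟨y, hy, hxy⟩ := L8_inv x hx
    refine ⟨y, hy, inv_eq_of_mul ?_⟩
    rw [hg, T8.mat_mul, hxy, T8.mat_one]

theorem Qb_four {g : Sp} (h : g ∈ Qb) : g ^ 4 = 1 := by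
  obtain ⟨x, hx, hg⟩ := h
  apply Subtype.ext
  have h1 : ((g ^ 4 : Sp) : Mat) = ((g : Mat) * g) * ((g : Mat) * g) := by
    rw [pow_four']; rfl
  rw [h1, hg, T8.mat_mul, T8.mat_mul, L8_four x hx, T8.mat_one]
  rfl

theorem L8_cases : ∀ x ∈ L8, x = T8.one ∨ x = T8.one.neg ∨
    (x.mul x = T8.one.neg ∧ x ≠ T8.I ∧ x ≠ T8.I.neg) := by decide +kernel

theorem L8_comm : ∀ x ∈ L8, x.mul T8.I = T8.I.mul x := by decide +kernel

theorem m1_eq' : (m1 : Mat) = -T8.I.mat := by rw [T8.mat_I, neg_neg]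

theorem Qb_comm {g : Sp} (h : g ∈ Qb) : (g : Mat) * m1 = m1 * (g : Mat) := by
  obtain ⟨x, hx, hg⟩ := h
  rw [hg, m1_eq', mul_neg, neg_mul, T8.mat_mul, T8.mat_mul, L8_comm x hx]

theorem mat_neg_one : T8.one.neg.mat = -1 := by rw [T8.mat_neg, T8.mat_one]

theorem Qb_conj {g : Sp} (h : (g : Mat) * m1 = m1 * (g : Mat)) {x : Sp} (hx : x ∈ Qb) :
    g * x * g⁻¹ ∈ Qb := by
  have hinv : (g : Mat) * ((g⁻¹ : Sp) : Mat) = 1 := congrArg Subtype.val (mul_inv_cancel g)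
  have hinv' : ((g⁻¹ : Sp) : Mat) * (g : Mat) = 1 := congrArg Subtype.val (inv_mul_cancel g)
  have hxm := Qb_comm hx
  obtain ⟨y, hy, hxy⟩ := hx
  have hval : ((g * x * g⁻¹ : Sp) : Mat) = (g : Mat) * x * ((g⁻¹ : Sp) : Mat) := rfl
  rcases L8_cases y hy with rfl | rfl | ⟨h1, h2, h3⟩
  · refine ⟨T8.one, hy, ?_⟩
    rw [hval, hxy, T8.mat_one, mul_one, hinv]
  · refine ⟨T8.one.neg, hy, ?_⟩
    rw [hval, hxy, mat_neg_one, mul_neg, mul_one, neg_mul, hinv]
  · have hgi : ((g⁻¹ : Sp) : Mat) * m1 = m1 * ((g⁻¹ : Sp) : Mat) := by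
      calc ((g⁻¹ : Sp) : Mat) * m1 = ((g⁻¹ : Sp) : Mat) * (m1 * (g : Mat)) * ((g⁻¹ : Sp) : Mat) := by
            rw [mul_assoc, mul_assoc, hinv, mul_one]
        _ = m1 * ((g⁻¹ : Sp) : Mat) := by rw [← h, ← mul_assoc, hinv', one_mul]
    have hc : ((g * x * g⁻¹ : Sp) : Mat) * m1 = m1 * ((g * x * g⁻¹ : Sp) : Mat) := by
      rw [hval, mul_assoc, hgi, ← mul_assoc, mul_assoc (g : Mat) (x : Mat), hxm, ← mul_assoc (g : Mat), h,
        mul_assoc, mul_assoc, mul_assoc]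
    obtain ⟨w, hw, hu⟩ := exists_t8 hc
    have hsq : w.mul w = T8.one.neg := by
      apply T8.mat_inj
      rw [← T8.mat_mul, ← hw, hval, mat_neg_one]
      calc (g : Mat) * x * ((g⁻¹ : Sp) : Mat) * ((g : Mat) * x * ((g⁻¹ : Sp) : Mat))
          = (g : Mat) * x * (((g⁻¹ : Sp) : Mat) * (g : Mat)) * x * ((g⁻¹ : Sp) : Mat) := by
            simp only [mul_assoc]
        _ = (g : Mat) * (x * x) * ((g⁻¹ : Sp) : Mat) := by rw [hinv', mul_one]; simp only [mul_assoc]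
        _ = -1 := by rw [hxy, T8.mat_mul, h1, mat_neg_one, mul_neg, mul_one, neg_mul, hinv]
    have hback : (x : Mat) = ((g⁻¹ : Sp) : Mat) * w.mat * (g : Mat) := by
      rw [← hw, hval]
      calc (x : Mat) = (((g⁻¹ : Sp) : Mat) * (g : Mat)) * x * (((g⁻¹ : Sp) : Mat) * (g : Mat)) := by
            rw [hinv', one_mul, mul_one]
        _ = _ := by simp only [mul_assoc]
    have hIc : T8.I.mat * (g : Mat) = (g : Mat) * T8.I.mat := by
      have e : T8.I.mat = -(m1 : Mat) := T8.mat_I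
      rw [e, neg_mul, mul_neg, h]
    obtain ⟨u1, u2, u3, u4⟩ := hu
    rcases unitary_cases w.p0 w.p1 w.q0 w.q1 u1 w.r0 w.r1 w.s0 w.s1 u2 u3 u4 hsq with h4 | h4 | h4
    · exfalso
      apply h2
      apply T8.mat_inj
      have h5 : w = T8.I := h4
      rw [← hxy, hback, h5, mul_assoc, hIc, ← mul_assoc, hinv', one_mul]
    · exfalso
      apply h3
      apply T8.mat_inj
      have h5 : w = T8.I.neg := h4
      rw [← hxy, hback, h5, T8.mat_neg, mul_neg, neg_mul, mul_assoc, hIc, ← mul_assoc, hinv', one_mul]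
    · exact ⟨w, h4, hw⟩

/-- Complex conjugation. -/
def T8.cj (x : T8) : T8 := ⟨x.p0, -x.p1, x.q0, -x.q1, x.r0, -x.r1, x.s0, -x.s1⟩

theorem L8_cj : ∀ x ∈ L8, x.cj ∈ L8 := by decide +kernel

theorem m2_mul (x : T8) : (m2 : Mat) * x.mat = x.cj.mat * m2 := by
  have hm : (m2 : Mat) = fromBlocks 1 1 1 (-1) := by decide +kernel
  rw [hm]
  unfold T8.mat T8.cj
  rw [fromBlocks_multiply, fromBlocks_multiply]
  congr 1 <;> ext i j <;> fin_cases i <;> fin_cases j <;> simp <;> ring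

theorem m21 : (m2 : Mat) * m1 = -((m1 : Mat) * m2) := by decide +kernel

theorem Qb_conj_m2 {x : Sp} (hx : x ∈ Qb) : m2 * x * m2⁻¹ ∈ Qb := by
  obtain ⟨y, hy, hxy⟩ := hx
  refine ⟨y.cj, L8_cj y hy, ?_⟩
  show (m2 : Mat) * x * ((m2⁻¹ : Sp) : Mat) = _
  have hinv : (m2 : Mat) * ((m2⁻¹ : Sp) : Mat) = 1 := congrArg Subtype.val (mul_inv_cancel m2)
  rw [hxy, m2_mul, mul_assoc, hinv, mul_one]

theorem Qb_normal {h x : PSp 2 F3} (hh : h * π m1 = π m1 * h) (hx : x ∈ Qb.map πh) :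
    h * x * h⁻¹ ∈ Qb.map πh := by
  obtain ⟨g, rfl⟩ := QuotientGroup.mk_surjective h
  obtain ⟨y, hy, rfl⟩ := hx
  have key : g * y * g⁻¹ ∈ Qb := by
    rcases comm_or (x := g) (y := m1) hh with h1 | h1
    · exact Qb_conj h1 hy
    · have h2 : ((m2 * g : Sp) : Mat) * m1 = m1 * ((m2 * g : Sp) : Mat) := by
        show (m2 : Mat) * g * m1 = m1 * (m2 * g)
        rw [mul_assoc, h1, mul_neg, ← mul_assoc, m21, neg_mul, neg_neg, mul_assoc]
      have h3 := Qb_conj_m2 (Qb_conj h2 hy)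
      have h4 : m2 * (m2 * g * y * (m2 * g)⁻¹) * m2⁻¹ = (m2 * m2) * (g * y * g⁻¹) * (m2 * m2)⁻¹ := by
        group
      have h5 : ((m2 * m2 : Sp) : Mat) = -1 := by
        show (m2 : Mat) * m2 = -1
        decide +kernel
      rw [h4] at h3
      obtain ⟨w, hw, hw'⟩ := h3
      refine ⟨w, hw, ?_⟩
      rw [← hw']
      have h6 : (((m2 * m2)⁻¹ : Sp) : Mat) = -1 := inv_eq_of_mul (by rw [h5]; simp)
      show _ = ((m2 * m2 : Sp) : Mat) * ((g * y * g⁻¹ : Sp) : Mat) * (((m2 * m2)⁻¹ : Sp) : Mat)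
      rw [h5, h6]
      simp
  exact ⟨_, key, rfl⟩

/-- The first generator in `Sp`. -/
def e1 : Sp := ⟨t1.mat, by rw [SymplecticGroup.mem_iff]; decide +kernel⟩
/-- The second generator in `Sp`. -/
def e2 : Sp := ⟨t2.mat, by rw [SymplecticGroup.mem_iff]; decide +kernel⟩

theorem e1_mem : e1 ∈ Qb := ⟨t1, by decide, rfl⟩
theorem e2_mem : e2 ∈ Qb := ⟨t2, by decide, rfl⟩

/-- The centralizer of the quaternion group. -/
theorem scalar_cases : ∀ p0 p1 q0 q1 : F3, p0 * p0 + p1 * p1 + q0 * q0 + q1 * q1 = 1 →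
    ∀ r0 r1 s0 s1 : F3, r0 * r0 + r1 * r1 + s0 * s0 + s1 * s1 = 1 →
    p0 * r0 + p1 * r1 + q0 * s0 + q1 * s1 = 0 → p1 * r0 - p0 * r1 + q1 * s0 - q0 * s1 = 0 →
    (⟨p0, p1, q0, q1, r0, r1, s0, s1⟩ : T8).mul t1 = t1.mul ⟨p0, p1, q0, q1, r0, r1, s0, s1⟩ →
    (⟨p0, p1, q0, q1, r0, r1, s0, s1⟩ : T8).mul t2 = t2.mul ⟨p0, p1, q0, q1, r0, r1, s0, s1⟩ →
    ((⟨p0, p1, q0, q1, r0, r1, s0, s1⟩ : T8).mul ⟨p0, p1, q0, q1, r0, r1, s0, s1⟩).mul
      ((⟨p0, p1, q0, q1, r0, r1, s0, s1⟩ : T8).mul ⟨p0, p1, q0, q1, r0, r1, s0, s1⟩) = T8.one := by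
  decide +kernel

theorem good_b : Good (π m1) := by
  refine ⟨Qb.map πh, isPGroup_map fun g hg => Qb_four hg, fun g hg x hx => Qb_normal hg hx, ?_⟩
  intro y hy hyx ho
  obtain ⟨g, rfl⟩ := QuotientGroup.mk_surjective y
  have c3 := sq_comm (comm_or (x := g) (y := m1) hy)
  have c1 := sq_comm (comm_or (x := g) (y := e1) (hyx _ ⟨e1, e1_mem, rfl⟩))
  have c2 := sq_comm (comm_or (x := g) (y := e2) (hyx _ ⟨e2, e2_mem, rfl⟩))
  obtain ⟨w, hw, u1, u2, u3, u4⟩ := exists_t8 (g := g * g) c3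
  have hw' : (g : Mat) * g = w.mat := hw
  have k1 : w.mul t1 = t1.mul w := by
    apply T8.mat_inj
    rw [← T8.mat_mul, ← T8.mat_mul, ← hw']
    exact c1
  have k2 : w.mul t2 = t2.mul w := by
    apply T8.mat_inj
    rw [← T8.mat_mul, ← T8.mat_mul, ← hw']
    exact c2
  have h4 := scalar_cases w.p0 w.p1 w.q0 w.q1 u1 w.r0 w.r1 w.s0 w.s1 u2 u3 u4 k1 k2
  have h5 : (g * g) ^ 4 = 1 := by
    apply Subtype.ext
    rw [pow_four']
    show ((g : Mat) * g) * ((g : Mat) * g) * (((g : Mat) * g) * ((g : Mat) * g)) = 1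
    rw [hw', T8.mat_mul, T8.mat_mul]
    have h6 : (w.mul w).mul (w.mul w) = T8.one := h4
    rw [h6, T8.mat_one]
  refine eq_one_of_pow ?_ ho
  show (πh g) ^ 16 = 1
  rw [← map_pow]
  have h6 : g ^ 16 = ((g * g) ^ 4) ^ 2 := by
    rw [← pow_mul, ← pow_two, ← pow_mul]
  rw [h6, h5, one_pow, map_one]

/-! ### All involutions -/

open Cfsg.Agent.ClassicalGeometry.SympInvolutions

theorem exists_cnt_one {g : Sp} (hg : (g : Mat) * g = 1) (h1 : π g ≠ 1) :
    ∃ δ : Fin 2 → Bool, HasPattern (g : Mat) δ ∧ cnt δ = 1 := by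
  obtain ⟨δ, hδ⟩ := exists_hasPattern (by decide) g.2 hg
  refine ⟨δ, hδ, ?_⟩
  have hle := cnt_le δ
  have h0 : cnt δ ≠ 0 := by
    intro h0
    have := eq_one_of_cnt_eq_zero hδ h0
    exact h1 (by rw [this]; rfl)
  have h2 : cnt δ ≠ 2 := by
    intro h2
    have h3 := hδ.neg
    have h4 : cnt (fun i => !(δ i)) = 0 := by rw [cnt_not, h2]
    set g' : Sp := ⟨-(g : Mat), SymplecticGroup.neg_mem g.2⟩ with hg'
    have h5 : g' = 1 := eq_one_of_cnt_eq_zero (g := g') h3 h4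
    have h6 : π g = π 1 := π_eq (Or.inr (by
      have h7 : -(g : Mat) = 1 := congrArg Subtype.val h5
      rw [← neg_neg (g : Mat), h7]
      rfl))
    exact h1 (h6.trans π_one)
  omega

theorem good_all (t : PSp 2 F3) (ht : orderOf t = 2) : Good t := by
  obtain ⟨g, rfl⟩ := QuotientGroup.mk_surjective t
  have hne : π g ≠ 1 := by
    intro h
    have h2 : orderOf (π g) = 2 := ht
    rw [h, orderOf_one] at h2
    omega
  have hsq : π (g * g) = π 1 := by
    have h2 : (π g) ^ 2 = 1 := by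
      have := pow_orderOf_eq_one (π g)
      rwa [show orderOf (π g) = 2 from ht] at this
    rw [π_mul, ← pow_two, h2, π_one]
  rcases eq_or_of_π_eq hsq with h | h
  · obtain ⟨δ, hδ, hc⟩ := exists_cnt_one (g := g) h hne
    obtain ⟨δ', hδ', hc'⟩ := exists_cnt_one (g := m3) (by decide +kernel)
      (Cfsg.Agent.SmallSimple.S1000.Order25920PSp.π_ne_one (by decide +kernel))
    have h3 : IsConj m3 g := isConj_of_cnt_eq hδ' hδ (by rw [hc, hc'])
    exact good_iff_of_isConj (MonoidHom.map_isConj πh h3) good_a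
  · have h3 : IsConj m1 g := isConj_of_sq_neg_one (by decide) (by decide +kernel) h
    exact good_iff_of_isConj (MonoidHom.map_isConj πh h3) good_b

theorem charTwo_F3 : IsCharacteristicTwoType (PSp 2 F3) := by
  haveI : Finite (PSp 2 F3) := Quotient.finite _
  refine isCharacteristicTwoType ?_ good_all
  have h1 : orderOf (π m3) = 2 := by
    haveI : Fact (Nat.Prime 2) := ⟨Nat.prime_two⟩
    refine orderOf_eq_prime ?_ ?_
    · rw [pow_two, ← π_mul, ← π_one]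
      exact π_eq (Or.inl (by decide +kernel))
    · exact Cfsg.Agent.SmallSimple.S1000.Order25920PSp.π_ne_one (by decide +kernel)
  have h2 : orderOf (π m3) ∣ Nat.card (PSp 2 F3) := _root_.orderOf_dvd_natCard _
  rw [h1] at h2
  exact (even_iff_two_dvd).2 h2

/-- `PSp₄(3)` is of characteristic `2` type. -/
theorem charTwo_PSp43 {F : Type*} [Field F] [Fintype F] (hF : Fintype.card F = 3) :
    IsCharacteristicTwoType (PSp 2 F) :=
  Generic.isCharacteristicTwoType_congr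
    (Cfsg.Agent.LieClassical.FieldTransfer.pspCongr 2 (Cfsg.Agent.Lib.FieldThree.equivOfCard hF)).symm
    charTwo_F3

theorem of_equiv {G : Type*} [Group G] {F : Type*} [Field F] [Fintype F] (hF : Fintype.card F = 3)
    (e : Nonempty (G ≃* PSp 2 F)) : IsCharacteristicTwoType G := by
  obtain ⟨e⟩ := e
  exact Generic.isCharacteristicTwoType_congr e.symm (charTwo_PSp43 hF)

end Cfsg.Agent.OddHalf.Small.PSp43
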