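import Mathlib
import Cfsg.Prelude.Def_Classical
import Cfsg.Agent.OddHalf.Small.PslChar
import Cfsg.Agent.OddHalf.Small.Generic
import Cfsg.Agent.ClassicalGeometry.OrthDickson
import Cfsg.Agent.ClassicalGeometry.Eichler
import Cfsg.Agent.LieClassical.OrthCenter
import Cfsg.Agent.LieClassical.QuadForms
import Cfsg.Prelude.Def_CaseTheorems
import Cfsg.Agent.OddHalf.Small.Crit
import Cfsg.Agent.LThreeFour.Inv_m3
import Cfsg.Agent.OddHalf.Small.Transport
import Cfsg.Agent.OddHalf.Small.GLTwoThree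
import Cfsg.Agent.Schreier.MEleven
import Cfsg.Agent.SporadicA.M11Iso
import Cfsg.Agent.S1603
import Cfsg.Prelude.Def_Classification2
import Cfsg.Prelude.Def_LieTypeChar
import Cfsg.Agent.GH.AltOut
import Cfsg.Agent.OddHalf.Small.Excl
import Cfsg.Agent.OddHalf.Small.Alt
import Cfsg.Agent.OddHalf.Small.Sp_m3
import Cfsg.Agent.S0282
import Cfsg.Agent.FastGrp
import Cfsg.Agent.Prune
set_option linter.all false
prune_inst 0x7f00000000000000000000000000000000000000000000000000000000000000000000000000000000000000000000000000000000000000000000000000000000000000000000000000000000000000003fffffffffffffffffffffffffffbeffbdffffffff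
open scoped Cfsg.Agent.FastGrp

-- part: OddHalf/Small/Orth
section
/-!
# Orthogonal groups over the field with two elements are of characteristic 2 type
-/

set_option autoImplicit false
set_option linter.unusedSectionVars false

namespace Cfsg.Agent.OddHalf.Small.Orth

open Subgroup Cfsg Cfsg.Agent.OddHalf.Small.Crit Cfsg.Agent.OddHalf.Small.Flag
open QuadraticMap Matrix Module
open Cfsg.Agent.ClassicalGeometry.Reflection
open Cfsg.Agent.ClassicalGeometry.OrthCharTwo Cfsg.Agent.ClassicalGeometry.OrthDickson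
open Cfsg.Agent.ClassicalGeometry.Eichler

variable {ι : Type} [Fintype ι] [DecidableEq ι] {F : Type*} [Field F]
variable (Q : QuadraticForm F (ι → F))

/-- The Eichler transformations of a form in characteristic two lie in `Omega`. -/
theorem exists_eichler [Finite F] (h2 : (2 : F) = 0) (hQ : (polarBilin Q).Nondegenerate)
    (hn : 5 ≤ Fintype.card ι) (u w : ι → F) (hu : Q u = 0) (huw : polar (⇑Q) u w = 0) :
    ∃ E ∈ commutator (Cfsg.isometryGroup F (⇑Q)), ∀ x,
      act E x = x + (polar (⇑Q) u x • w + polar (⇑Q) w x • u + (Q w * polar (⇑Q) u x) • u) := by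
  have hn4 : Fintype.card ι ≠ 4 := by omega
  have hneg : ∀ c : F, -c = c := fun c => by linear_combination -c * h2
  by_cases hw : Q w = 0
  · refine ⟨eichlerIso Q u w hu huw, ?_, ?_⟩
    · rw [commutator_eq_closure]
      apply Subgroup.subset_closure
      refine siegel_mem_commutatorSet Q hQ hn u w hu hw huw 1 _ ?_
      rw [coe_eichlerIso, siegelMatrix_eq Q u w 1 hw, one_smul]
    · intro x
      rw [act_def, coe_eichlerIso, eichlerMatrix_mulVec, hw, sub_eq_add_neg, sub_eq_add_neg, ← neg_smul, ← neg_smul,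
        hneg, hneg]
  · have hw' : Q (w + Q w • u) ≠ 0 := by
      rw [map_add', QuadraticMap.map_smul, hu, polar_smul_right, polar_comm (⇑Q) w u, huw]
      simpa using hw
    refine ⟨reflIso Q w hw * reflIso Q (w + Q w • u) hw',
      refl_mul_refl_mem_two Q h2 hQ (Or.inr hn4) _ _ hw hw', fun x => ?_⟩
    rw [act_refl_refl Q u w hu huw hw hw' x, sub_eq_add_neg, sub_eq_add_neg, ← neg_smul, ← neg_smul, hneg, hneg]
    abel

/-- The natural representation of `Omega`. -/
def rep : Cfsg.Omega F (⇑Q) →* AddMonoid.End (ι → F) where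
  toFun g := (Matrix.mulVecLin (((g : Cfsg.isometryGroup F (⇑Q)) : Matrix.GeneralLinearGroup ι F) :
    Matrix ι ι F)).toAddMonoidHom
  map_one' := by
    ext v : 1
    exact act_one (Q := ⇑Q) v
  map_mul' a b := by
    ext v : 1
    exact act_mul (a : Cfsg.isometryGroup F (⇑Q)) b v

theorem rep_injective : Function.Injective (rep Q) := by
  intro a b h
  apply Subtype.ext
  apply act_ext
  intro x
  exact congrArg (fun f : AddMonoid.End (ι → F) => f x) h

theorem rep_mul (g h : Cfsg.Omega F (⇑Q)) (v : ι → F) : rep Q (g * h) v = rep Q g (rep Q h v) := by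
  rw [map_mul]; rfl

theorem rep_smul (g : Cfsg.Omega F (⇑Q)) (c : F) (v : ι → F) : rep Q g (c • v) = c • rep Q g v :=
  act_smul _ c v

theorem polar_rep (g : Cfsg.Omega F (⇑Q)) (x y : ι → F) :
    polar (⇑Q) (rep Q g x) (rep Q g y) = polar (⇑Q) x y := polar_act _ x y

theorem Q_rep (g : Cfsg.Omega F (⇑Q)) (x : ι → F) : Q (rep Q g x) = Q x := Q_act _ x

/-- Every involution of `Omega` over the field with two elements is good (dimension at least six). -/
theorem good_of_sq [Fintype F] (hF : Fintype.card F = 2) (hQ : (polarBilin Q).Nondegenerate)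
    (hn : 6 ≤ Fintype.card ι) {t : Cfsg.Omega F (⇑Q)} (ht : t * t = 1) (ht1 : t ≠ 1) : Good t := by
  classical
  have h01 : ∀ c : F, c = 0 ∨ c = 1 := by
    intro c
    by_contra hcon
    push Not at hcon
    have h3 : ({0, 1, c} : Finset F).card = 3 := by
      rw [Finset.card_eq_three]
      exact ⟨0, 1, c, zero_ne_one, hcon.1.symm, hcon.2.symm, rfl⟩
    have := Finset.card_le_univ ({0, 1, c} : Finset F)
    omega
  have h2 : (2 : F) = 0 := by
    have hone : (1 : F) + 1 = 0 := by
      rcases h01 (1 + 1) with h | h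
      · exact h
      · exact absurd (add_eq_left.1 h) one_ne_zero
    rw [← one_add_one_eq_two]; exact hone
  have hneg : ∀ c : F, -c = c := fun c => by linear_combination -c * h2
  have hV : ∀ x : ι → F, x + x = 0 := fun x => by
    rw [← two_smul F x, h2, zero_smul]
  have hnegv : ∀ x : ι → F, -x = x := fun x => neg_eq_of_add_eq_zero_left (hV x)
  have hself : ∀ x, polar (⇑Q) x x = 0 := fun x => by rw [polar_self', h2, zero_mul]
  have hn4 : Fintype.card ι ≠ 4 := by omega
  have htt : ∀ v, rep Q t (rep Q t v) = v := fun v => by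
    rw [← rep_mul, ht, map_one]; rfl
  -- `W = [V, t]` is totally isotropic of dimension at least two
  set τ : Cfsg.isometryGroup F (⇑Q) := (t : Cfsg.isometryGroup F (⇑Q)) with hτ
  set W : Submodule F (ι → F) := resSp τ with hW
  have hWiso : ∀ w ∈ W, ∀ w' ∈ W, polar (⇑Q) w w' = 0 := by
    rintro _ ⟨v, rfl⟩ _ ⟨v', rfl⟩
    have e1 : polar (⇑Q) (act τ v) (act τ v') = polar (⇑Q) v v' := polar_act _ v v'
    have e2 : polar (⇑Q) (act τ v) v' = polar (⇑Q) v (act τ v') := by
      have := polar_act τ v (act τ v')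
      rw [← this]
      congr 1
      exact (htt v').symm
    rw [polar_sub_left, polar_sub_right, polar_sub_right, e1, e2]
    have : polar (⇑Q) v v' - polar (⇑Q) v (act τ v') - (polar (⇑Q) v (act τ v') - polar (⇑Q) v v')
        = 2 * (polar (⇑Q) v v' - polar (⇑Q) v (act τ v')) := by ring
    rw [this, h2, zero_mul]
  have hdimW : 2 ≤ finrank F W := by
    have h3 : dsign Q τ = 1 := dsign_eq_one_of_mem_commutator Q hQ (Or.inr hn4) τ t.2
    rw [dsign_def] at h3
    have h4 : Even (finrank F (fixSp τ) + Fintype.card ι) := by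
      rcases Nat.even_or_odd (finrank F (fixSp τ) + Fintype.card ι) with h | h
      · exact h
      · rw [h.neg_one_pow] at h3
        exact absurd h3 (by decide)
    have h5 : finrank F W + finrank F (fixSp τ) = Fintype.card ι := by
      have h6 := LinearMap.BilinForm.finrank_orthogonal hQ W
      rw [hW, orthogonal_resSp Q hQ τ, finrank_fintype_fun_eq_card] at h6
      have h7 : finrank F (resSp τ) ≤ Fintype.card ι := by
        have := Submodule.finrank_le (resSp τ)
        rwa [finrank_fintype_fun_eq_card] at this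
      rw [hW]
      omega
    have h6 : finrank F W ≠ 0 := by
      intro h0
      have h7 : fixSp τ = ⊤ := by
        apply Submodule.eq_top_of_finrank_eq
        rw [finrank_fintype_fun_eq_card]
        omega
      have h8 := fixSp_eq_top_iff.1 h7
      exact ht1 (Subtype.ext h8)
    rw [Nat.even_iff] at h4
    omega
  -- a nonzero singular vector of `W`
  obtain ⟨w₀, hw₀, hw₀0, hw₀q⟩ : ∃ w ∈ W, w ≠ 0 ∧ Q w = 0 := by
    by_contra hcon
    push Not at hcon
    have hq1 : ∀ w ∈ W, w ≠ 0 → Q w = 1 := fun w hw hw0 => (h01 (Q w)).resolve_left (hcon w hw hw0)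
    have hWne : W ≠ ⊥ := by
      intro h; rw [h, finrank_bot] at hdimW; omega
    obtain ⟨a, ha, ha0⟩ := (Submodule.ne_bot_iff _).1 hWne
    have hle : W ≤ Submodule.span F {a} := by
      intro b hb
      by_contra hba
      have hb0 : b ≠ 0 := by
        rintro rfl
        exact hba (Submodule.zero_mem _)
      have hab : a + b ≠ 0 := by
        intro h
        apply hba
        have : b = a := by
          have h3 : a + b + b = b := by rw [h, zero_add]
          rw [add_assoc, hV, add_zero] at h3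
          exact h3.symm
        rw [this]
        exact Submodule.mem_span_singleton_self a
      have h3 := hq1 _ (W.add_mem ha hb) hab
      rw [map_add', hq1 a ha ha0, hq1 b hb hb0, hWiso a ha b hb, add_zero] at h3
      exact one_ne_zero (add_eq_left.1 h3)
    have h3 := Submodule.finrank_mono hle
    have h4 : finrank F (Submodule.span F {a}) = 1 := finrank_span_singleton ha0
    omega
  -- the totally singular subspace `W0`
  let W0 : Submodule F (ι → F) :=
    { carrier := {w | w ∈ W ∧ Q w = 0}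
      add_mem' := by
        rintro a b ⟨ha, ha'⟩ ⟨hb, hb'⟩
        exact ⟨W.add_mem ha hb, by rw [map_add', ha', hb', hWiso a ha b hb, add_zero, add_zero]⟩
      zero_mem' := ⟨W.zero_mem, QuadraticMap.map_zero Q⟩
      smul_mem' := by
        rintro c a ⟨ha, ha'⟩
        exact ⟨W.smul_mem c ha, by rw [QuadraticMap.map_smul, ha', smul_zero]⟩ }
  have mW0 : ∀ w, w ∈ W0 ↔ w ∈ W ∧ Q w = 0 := fun w => Iff.rfl
  let P : Submodule F (ι → F) := LinearMap.BilinForm.orthogonal (polarBilin Q) W0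
  have mP : ∀ x, x ∈ P ↔ ∀ w ∈ W0, polar (⇑Q) w x = 0 := fun x => by
    rw [LinearMap.BilinForm.mem_orthogonal_iff]
    rfl
  have hPP : LinearMap.BilinForm.orthogonal (polarBilin Q) P = W0 :=
    LinearMap.BilinForm.orthogonal_orthogonal hQ (polarBilin_isRefl Q) _
  have hWP : W0 ≤ P := fun w hw => (mP w).2 fun w' hw' => hWiso w' hw'.1 w hw.1
  have hw₀W : w₀ ∈ W0 := ⟨hw₀, hw₀q⟩
  have hcW : ∀ g : Cfsg.Omega F (⇑Q), g * t = t * g → ∀ x ∈ W0, rep Q g x ∈ W0 := by
    rintro g hg x ⟨⟨v, rfl⟩, hx⟩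
    refine ⟨⟨rep Q g v, ?_⟩, ?_⟩
    · show rep Q t (rep Q g v) - rep Q g v = rep Q g (rep Q t v - v)
      rw [map_sub, ← rep_mul, ← rep_mul, hg]
    · show Q (rep Q g (act τ v - v)) = 0
      rw [Q_rep]; exact hx
  have hinvc : ∀ g : Cfsg.Omega F (⇑Q), g * t = t * g → g⁻¹ * t = t * g⁻¹ := by
    intro g hg
    have : g⁻¹ * (g * t) * g⁻¹ = g⁻¹ * (t * g) * g⁻¹ := by rw [hg]
    have e1 : g⁻¹ * (g * t) * g⁻¹ = t * g⁻¹ := by group
    have e2 : g⁻¹ * (t * g) * g⁻¹ = g⁻¹ * t := by group
    rw [e1, e2] at this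
    exact this.symm
  have hcP : ∀ g : Cfsg.Omega F (⇑Q), g * t = t * g → ∀ x ∈ P, rep Q g x ∈ P := by
    intro g hg x hx
    rw [mP] at hx ⊢
    intro w hw
    have h3 := hx _ (hcW _ (hinvc g hg) w hw)
    rw [← polar_rep Q g, ← rep_mul, mul_inv_cancel, map_one] at h3
    exact h3
  refine good hV (rep Q) (rep_injective Q) W0.toAddSubgroup P.toAddSubgroup hWP hcW hcP ?_
  intro y hyt hy
  -- Eichler elements commute with `y`
  have hE : ∀ w ∈ W0, ∀ u ∈ P, ∀ v : ι → F,
      polar (⇑Q) w v • rep Q y u + polar (⇑Q) u v • rep Q y w + (Q u * polar (⇑Q) w v) • rep Q y w =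
      polar (⇑Q) w (rep Q y v) • u + polar (⇑Q) u (rep Q y v) • w +
        (Q u * polar (⇑Q) w (rep Q y v)) • w := by
    intro w hw u hu v
    have hwu : polar (⇑Q) w u = 0 := (mP u).1 hu w hw
    obtain ⟨E, hEm, hEa⟩ := exists_eichler Q h2 hQ (by omega) w u hw.2 hwu
    have hmem : (⟨E, hEm⟩ : Cfsg.Omega F (⇑Q)) ∈ stab (rep Q) W0.toAddSubgroup P.toAddSubgroup hWP := by
      refine ⟨fun x hx => ?_, fun x hx => ?_, fun x => ?_⟩
      · show act E x = x
        rw [hEa, hWiso w hw.1 x hx.1]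
        have h3 : polar (⇑Q) u x = 0 := by
          rw [polar_comm]; exact (mP u).1 hu x hx
        rw [h3, mul_zero, zero_smul, zero_smul, add_zero, add_zero, add_zero]
      · show act E x - x ∈ W0
        rw [hEa, (mP x).1 hx w hw, mul_zero, zero_smul, zero_smul, zero_add, add_zero, add_sub_cancel_left]
        exact W0.smul_mem _ hw
      · show act E x - x ∈ P
        rw [hEa, add_sub_cancel_left]
        exact P.add_mem (P.add_mem (P.smul_mem _ hu) (P.smul_mem _ (hWP hw))) (P.smul_mem _ (hWP hw))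
    have hc := hy _ hmem
    have h3 := congrArg (fun g => rep Q g v) hc
    simp only [rep_mul] at h3
    have e1 : rep Q (⟨E, hEm⟩ : Cfsg.Omega F (⇑Q)) v =
      v + (polar (⇑Q) w v • u + polar (⇑Q) u v • w + (Q u * polar (⇑Q) w v) • w) := hEa v
    have e2 : rep Q (⟨E, hEm⟩ : Cfsg.Omega F (⇑Q)) (rep Q y v) = rep Q y v + (polar (⇑Q) w (rep Q y v) • u +
      polar (⇑Q) u (rep Q y v) • w + (Q u * polar (⇑Q) w (rep Q y v)) • w) := hEa _
    rw [e1, e2, map_add, map_add, map_add, rep_smul, rep_smul, rep_smul] at h3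
    exact add_left_cancel h3
  have hne : ∀ x, x ≠ 0 → rep Q y x ≠ 0 := by
    intro x hx h
    apply hx
    have h3 : rep Q y⁻¹ (rep Q y x) = x := by
      rw [← rep_mul, inv_mul_cancel, map_one]; rfl
    rw [← h3, h, map_zero]
  -- `y` fixes `W0` pointwise
  have hA : ∀ w ∈ W0, rep Q y w = w := by
    intro w hw
    by_cases hw0 : w = 0
    · rw [hw0, map_zero]
    by_cases hcase : P ≤ W0
    · -- `W0` is a maximal totally singular subspace of dimension at least three
      have hPeq : P = W0 := le_antisymm hcase hWP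
      have hdim : 3 ≤ finrank F W0 := by
        have h6 := LinearMap.BilinForm.finrank_orthogonal hQ W0
        have h6' : finrank F P = finrank F (ι → F) - finrank F W0 := h6
        rw [hPeq, finrank_fintype_fun_eq_card] at h6'
        omega
      have hsp : ∀ w' ∈ W0, w' ≠ 0 → w' ≠ w → rep Q y w = w ∨ rep Q y w = w' ∨ rep Q y w = w + w' := by
        intro w' hw' hw'0 hww'
        have hli : ∀ a b : F, a • w + b • w' = 0 → a = 0 ∧ b = 0 := by
          intro a b hab
          rcases h01 a with rfl | rfl <;> rcases h01 b with rfl | rfl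
          · exact ⟨rfl, rfl⟩
          · exact absurd (by simpa using hab) hw'0
          · exact absurd (by simpa using hab) hw0
          · exfalso
            apply hww'
            rw [one_smul, one_smul] at hab
            have h3 : w + w' + w = w := by rw [hab, zero_add]
            have h4 : w + w' + w = w' := by
              have : w + w' + w = w' + (w + w) := by abel
              rw [this, hV, add_zero]
            rw [← h4, h3]
        obtain ⟨v, hv1, hv2⟩ := exists_dual_pair Q hQ hli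
        have h3 := hE w hw w' (hWP hw') v
        rw [hv1, hv2, hw'.2] at h3
        simp only [zero_mul, zero_smul, one_smul, zero_add, add_zero] at h3
        rw [h3]
        rcases h01 (polar (⇑Q) w (rep Q y v)) with h4 | h4 <;> rcases h01 (polar (⇑Q) w' (rep Q y v)) with h5 | h5
        · exfalso
          rw [h4, h5, zero_smul, zero_smul, add_zero] at h3
          exact hne w hw0 h3
        · left; rw [h4, h5, zero_smul, one_smul, zero_add]
        · right; left; rw [h4, h5, one_smul, zero_smul, add_zero]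
        · right; right; rw [h4, h5, one_smul, one_smul, add_comm]
      by_contra hyw
      -- `w' = y w` and `w''` outside the span of `w, w'`
      set w' := rep Q y w with hw'
      have hw'W : w' ∈ W0 := hcW y hyt w hw
      have hw'0 : w' ≠ 0 := hne w hw0
      obtain ⟨w'', hw''W, hw''⟩ : ∃ w'' ∈ W0, w'' ∉ Submodule.span F ({w, w'} : Set (ι → F)) := by
        by_contra hcon
        push Not at hcon
        have h3 : finrank F W0 ≤ finrank F (Submodule.span F ({w, w'} : Set (ι → F))) :=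
          Submodule.finrank_mono hcon
        have h4 : finrank F (Submodule.span F ({w, w'} : Set (ι → F))) ≤ 2 := by
          have h5 := finrank_span_finset_le_card (R := F) ({w, w'} : Finset (ι → F))
          have h6 : ({w, w'} : Finset (ι → F)).card ≤ 2 := Finset.card_le_two
          rw [Finset.coe_pair] at h5
          exact h5.trans h6
        omega
      have hs1 : w ∈ Submodule.span F ({w, w'} : Set (ι → F)) := Submodule.subset_span (by simp)
      have hs2 : w' ∈ Submodule.span F ({w, w'} : Set (ι → F)) := Submodule.subset_span (by simp)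
      have h30 : w'' ≠ 0 := by
        rintro rfl; exact hw'' (Submodule.zero_mem _)
      have h31 : w'' ≠ w := by
        rintro rfl; exact hw'' hs1
      rcases hsp w'' hw''W h30 h31 with h | h | h
      · exact hyw h
      · apply hw''; rw [← h]; exact hs2
      · apply hw''
        have : w'' = w' + w := by
          have h3 : w' + w = w + w'' + w := by rw [h]
          have h4 : w + w'' + w = w'' + (w + w) := by abel
          rw [h3, h4, hV, add_zero]
        rw [this]
        exact Submodule.add_mem _ hs2 hs1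
    · -- there is `u ∈ P` outside `W0`
      obtain ⟨u, huP, huW⟩ := Set.not_subset.1 hcase
      obtain ⟨v, hvP, hv⟩ : ∃ v ∈ P, polar (⇑Q) u v ≠ 0 := by
        by_contra hcon
        push Not at hcon
        apply huW
        show u ∈ W0
        rw [← hPP, LinearMap.BilinForm.mem_orthogonal_iff]
        intro v hv
        show polar (⇑Q) v u = 0
        rw [polar_comm]
        exact hcon v hv
      have h3 := hE w hw u huP v
      rw [(mP v).1 hvP w hw, (mP _).1 (hcP y hyt v hvP) w hw] at h3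
      simp only [mul_zero, zero_smul, zero_add, add_zero] at h3
      rw [(h01 _).resolve_left hv, one_smul] at h3
      rcases h01 (polar (⇑Q) u (rep Q y v)) with h4 | h4
      · rw [h4, zero_smul] at h3
        exact absurd h3 (hne w hw0)
      · rw [h3, h4, one_smul]
  refine ⟨hA, fun u hu => ?_, fun x => ?_⟩
  · obtain ⟨v, hv⟩ := exists_polar_ne_zero Q hQ hw₀0
    have hv1 : polar (⇑Q) w₀ v = 1 := (h01 _).resolve_left hv
    have h3 := hE w₀ hw₀W u hu v
    have h4 : polar (⇑Q) w₀ (rep Q y v) = 1 := by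
      have h5 := polar_rep Q y w₀ v
      rw [hA w₀ hw₀W] at h5
      rw [h5, hv1]
    rw [hA w₀ hw₀W, h4, hv1, one_smul, one_smul] at h3
    have h5 : rep Q y u + polar (⇑Q) u v • w₀ = u + polar (⇑Q) u (rep Q y v) • w₀ := add_right_cancel h3
    have h6 : rep Q y u - u = (polar (⇑Q) u (rep Q y v) - polar (⇑Q) u v) • w₀ := by
      rw [sub_smul, sub_eq_sub_iff_add_eq_add, h5]
      abel
    show rep Q y u - u ∈ W0
    rw [h6]
    exact W0.smul_mem _ hw₀W
  · show rep Q y x - x ∈ P
    rw [mP]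
    intro w hw
    rw [polar_sub_right, sub_eq_zero]
    nth_rewrite 1 [← hA w hw]
    exact polar_rep Q y w x

/-- `Omega` over the field with two elements in dimension at least six. -/
theorem charTwo_Omega [Fintype F] (hF : Fintype.card F = 2) (hQ : (polarBilin Q).Nondegenerate)
    (hn : 6 ≤ Fintype.card ι) (hs : ∃ u : ι → F, u ≠ 0 ∧ Q u = 0) :
    IsCharacteristicTwoType (Cfsg.Omega F (⇑Q)) := by
  classical
  have h01 : ∀ c : F, c = 0 ∨ c = 1 := by
    intro c
    by_contra hcon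
    push Not at hcon
    have h3 : ({0, 1, c} : Finset F).card = 3 := by
      rw [Finset.card_eq_three]
      exact ⟨0, 1, c, zero_ne_one, hcon.1.symm, hcon.2.symm, rfl⟩
    have := Finset.card_le_univ ({0, 1, c} : Finset F)
    omega
  have h2 : (2 : F) = 0 := by
    have hone : (1 : F) + 1 = 0 := by
      rcases h01 (1 + 1) with h | h
      · exact h
      · exact absurd (add_eq_left.1 h) one_ne_zero
    rw [← one_add_one_eq_two]; exact hone
  have hV : ∀ x : ι → F, x + x = 0 := fun x => by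
    rw [← two_smul F x, h2, zero_smul]
  refine isCharacteristicTwoType ?_ ?_
  · -- an Eichler transformation is an involution
    obtain ⟨u, hu0, hu⟩ := hs
    have huu : polar (⇑Q) u u = 0 := by rw [polar_self', h2, zero_mul]
    -- `w ∈ u^⊥` outside `⟨u⟩`
    obtain ⟨w, hw, hwu⟩ : ∃ w, polar (⇑Q) u w = 0 ∧ w ∉ Submodule.span F {u} := by
      by_contra hcon
      push Not at hcon
      have h3 : finrank F (LinearMap.ker (polarBilin Q u)) ≤ finrank F (Submodule.span F {u}) :=
        Submodule.finrank_mono fun w hw => hcon w hw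
      rw [finrank_span_singleton hu0] at h3
      have h4 := LinearMap.finrank_range_add_finrank_ker (polarBilin Q u)
      have h5 : finrank F (LinearMap.range (polarBilin Q u)) ≤ 1 := by
        have := Submodule.finrank_le (LinearMap.range (polarBilin Q u))
        rwa [finrank_self] at this
      rw [finrank_fintype_fun_eq_card] at h4
      omega
    obtain ⟨E, hEm, hEa⟩ := exists_eichler Q h2 hQ (by omega) u w hu hw
    have hwu' : polar (⇑Q) w u = 0 := by rw [polar_comm]; exact hw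
    have hww : polar (⇑Q) w w = 0 := by rw [polar_self', h2, zero_mul]
    have h1 : E * E = 1 := by
      apply act_ext
      intro x
      rw [act_mul, act_one, hEa x]
      rw [hEa]
      simp only [polar_add_right, polar_smul_right, huu, hwu', hw, hww, smul_zero, add_zero]
      have e : ∀ z : ι → F, x + z + z = x := fun z => by rw [add_assoc, hV, add_zero]
      exact e _
    have hne : E ≠ 1 := by
      intro h
      obtain ⟨v, hv⟩ := exists_polar_ne_zero Q hQ hu0
      have hv1 : polar (⇑Q) u v = 1 := (h01 _).resolve_left hv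
      have h3 := hEa v
      rw [h, act_one, hv1, one_smul, mul_one] at h3
      have h4 : w + polar (⇑Q) w v • u + Q w • u = 0 := by
        have h5 : v + 0 = v + (w + polar (⇑Q) w v • u + Q w • u) := by rw [add_zero]; exact h3
        exact (add_left_cancel h5).symm
      apply hwu
      rw [Submodule.mem_span_singleton]
      refine ⟨-(polar (⇑Q) w v + Q w), ?_⟩
      rw [neg_smul, add_smul, neg_eq_iff_add_eq_zero, ← h4]
      abel
    have h3 : orderOf (⟨E, hEm⟩ : Cfsg.Omega F (⇑Q)) = 2 := by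
      refine orderOf_eq_prime ?_ ?_
      · rw [_root_.sq]; exact Subtype.ext h1
      · intro h; exact hne (congrArg Subtype.val h)
    rw [even_iff_two_dvd, ← h3]
    exact orderOf_dvd_natCard _
  · intro t ht
    refine good_of_sq Q hF hQ hn ?_ ?_
    · rw [← _root_.sq, ← ht]; exact pow_orderOf_eq_one t
    · intro h; rw [h, orderOf_one] at ht; exact absurd ht (by decide)

/-- `PΩ` over the field with two elements in dimension at least six. -/
theorem charTwo_POmega [Fintype F] (hF : Fintype.card F = 2) (hQ : (polarBilin Q).Nondegenerate)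
    (hn : 6 ≤ Fintype.card ι) (hs : ∃ u : ι → F, u ≠ 0 ∧ Q u = 0) :
    IsCharacteristicTwoType (Cfsg.POmega F (⇑Q)) := by
  have h2 : (2 : F) = 0 := by
    have h3 : ((Fintype.card F : ℕ) : F) = 0 := Nat.cast_card_eq_zero F
    rw [hF] at h3
    exact_mod_cast h3
  have hc : Subgroup.center (Cfsg.Omega F (⇑Q)) = ⊥ :=
    Cfsg.Agent.LieClassical.OrthCenter.center_omega_eq_bot_char_two h2 hQ (by omega) hs
  have hinj : Function.Injective (QuotientGroup.mk' (Subgroup.center (Cfsg.Omega F (⇑Q)))) := by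
    rw [← MonoidHom.ker_eq_bot_iff, QuotientGroup.ker_mk']
    exact hc
  let e : Cfsg.Omega F (⇑Q) ≃* Cfsg.POmega F (⇑Q) :=
    MulEquiv.ofBijective (QuotientGroup.mk' _) ⟨hinj, QuotientGroup.mk'_surjective _⟩
  exact Generic.isCharacteristicTwoType_congr e (charTwo_Omega Q hF hQ hn hs)

/-- `PΩ⁺(2m, 2)`, `m ≥ 3`. -/
theorem charTwo_POmegaPlus [Fintype F] (hF : Fintype.card F = 2) {m : ℕ} (hm : 3 ≤ m) :
    IsCharacteristicTwoType (Cfsg.POmega F (Cfsg.quadFormPlus m F)) := by
  classical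
  have hQ : (polarBilin (Cfsg.Agent.LieClassical.QuadForms.plusForm m F)).Nondegenerate := by
    have hl := Cfsg.Agent.LieClassical.QuadForms.polar_plusForm_nondeg (F := F) m
    refine ⟨fun x hx => hl x hx, fun x hx => hl x fun y => ?_⟩
    rw [polar_comm]
    exact hx y
  have h := charTwo_POmega (Cfsg.Agent.LieClassical.QuadForms.plusForm m F) hF hQ (by
    rw [Fintype.card_sum, Fintype.card_fin]; omega) (by
    refine ⟨Pi.single (Sum.inl ⟨0, by omega⟩) 1, ?_, ?_⟩
    · intro h
      have := congrFun h (Sum.inl ⟨0, by omega⟩)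
      rw [Pi.single_eq_same] at this
      exact one_ne_zero this
    · rw [Cfsg.Agent.LieClassical.QuadForms.plusForm_apply]
      apply Finset.sum_eq_zero
      intro i _
      have : (Pi.single (Sum.inl ⟨0, by omega⟩) 1 : Fin m ⊕ Fin m → F) (Sum.inr i) = 0 := by
        rw [Pi.single_eq_of_ne]
        exact Sum.inr_ne_inl
      rw [this, mul_zero])
  rw [Cfsg.Agent.LieClassical.QuadForms.coe_plusForm] at h
  exact h

end Cfsg.Agent.OddHalf.Small.Orth
end

-- part: OddHalf/Small/Plug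
section
-- merged: Cfsg.Agent.OddHalf.Small.L34
section

/-!
# `L₃(4)` is of characteristic 2 type

Involution centralizers are Sylow 2-subgroups.
-/

set_option autoImplicit false

namespace Cfsg.Agent.OddHalf.Small.L34

open Subgroup Cfsg Cfsg.Agent.LThreeFour Crit

theorem good_x02 {L : Type*} [Group L] (A : Dat L) : Good (A.x 0 2 1) := by
  refine good_of_two fun y hy ho => ?_
  have h1 : y ∈ A.T := by
    obtain ⟨p, hp⟩ := A.cent y hy
    exact ⟨p, hp.symm⟩
  have h2 : (⟨y, h1⟩ : A.T) ^ 64 = 1 := by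
    rw [← A.card_T]; exact pow_card_eq_one'
  have h3 : y ^ 64 = 1 := congrArg Subtype.val h2
  have h4 : orderOf y ∣ 2 ^ 6 := orderOf_dvd_of_pow_eq_one h3
  have h5 : Nat.Coprime (orderOf y) (2 ^ 6) := (Nat.coprime_two_right.mpr ho).pow_right 6
  exact orderOf_eq_one_iff.mp (Nat.Coprime.eq_one_of_dvd h5 h4)

theorem charTwo {L : Type*} [Group L] {F : Type*} [Field F] [Fintype F]
    (hF : Fintype.card F = 4) (e : L ≃* Matrix.ProjectiveSpecialLinearGroup (Fin 3) F) :
    IsCharacteristicTwoType L := by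
  obtain ⟨A⟩ := exists_dat hF e
  have hfin : Finite L := Nat.finite_of_card_ne_zero (by rw [A.card]; norm_num)
  refine isCharacteristicTwoType ?_ fun t ht => ?_
  · rw [A.card]; decide
  · obtain ⟨g, hg⟩ := A.invol_conj t (by rintro rfl; simp at ht)
      (by rw [← pow_two, ← ht]; exact pow_orderOf_eq_one t)
    exact good_iff_of_isConj (isConj_iff.mpr ⟨g, hg⟩).symm (good_x02 A)

end Cfsg.Agent.OddHalf.Small.L34

end

-- merged: Cfsg.Agent.OddHalf.Small.M11
section

/-!
# `M₁₁` is of characteristic 2 type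

Involution centralizers are isomorphic to `GL₂(3)`.
-/

set_option autoImplicit false

open scoped Pointwise

namespace Cfsg.Agent.OddHalf.Small.M11

open Subgroup Cfsg Crit

/-- The joint stabilizer of a dodecad and one of its points. -/
theorem charTwo_stab (d : Finset GolayPt) (hd : d ∈ dodecads) (p : GolayPt) (hp : p ∈ d) :
    IsCharacteristicTwoType
      ↥(MulAction.stabilizer Cfsg.M24 d ⊓ MulAction.stabilizer Cfsg.M24 p) := by
  have hc := Cfsg.Agent.S0387.result d hd p hp
  have hfin : Finite ↥(MulAction.stabilizer Cfsg.M24 d ⊓ MulAction.stabilizer Cfsg.M24 p) :=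
    Nat.finite_of_card_ne_zero (by rw [hc]; norm_num)
  refine isCharacteristicTwoType ?_ fun t ht => ?_
  · rw [hc]; decide
  · obtain ⟨e⟩ := Cfsg.Agent.S1603.result d hd p hp t ht
    exact GLTwoThree.good_of_gl e

/-- **`M₁₁` is of characteristic 2 type.** -/
theorem charTwo_M11 : IsCharacteristicTwoType Cfsg.Spor.M11 :=
  Transport.isCharacteristicTwoType Cfsg.Agent.Schreier.MEleven.equiv
    (charTwo_stab _ Cfsg.Agent.Schreier.MEleven.squareDodecad_mem _
      Cfsg.Agent.Schreier.MEleven.zero_mem)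

theorem charTwo_of_iso {G : Type*} [Group G] (h : Cfsg.Spor.IsoM11 G) :
    IsCharacteristicTwoType G := by
  obtain ⟨e⟩ := h
  exact Transport.isCharacteristicTwoType e.symm charTwo_M11

/-- A simple group of order 7920 is of characteristic 2 type. -/
theorem charTwo_of_isM11 {G : Type*} [Group G] [Finite G] (h : Cfsg.IsM11 G) :
    IsCharacteristicTwoType G := by
  obtain ⟨X, i1, i2, i3, hX, h4⟩ := Cfsg.Agent.SectRankFour.AutM11.exists_sharp4 h
  obtain ⟨e⟩ := Cfsg.Agent.SporadicA.M11Iso.nonempty_mulEquiv_dodecad_point hX h4 _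
    Cfsg.Agent.Schreier.MEleven.squareDodecad_mem _ Cfsg.Agent.Schreier.MEleven.zero_mem
  exact Transport.isCharacteristicTwoType e.symm
    (charTwo_stab _ Cfsg.Agent.Schreier.MEleven.squareDodecad_mem _
      Cfsg.Agent.Schreier.MEleven.zero_mem)

end Cfsg.Agent.OddHalf.Small.M11

end

-- merged: Cfsg.Agent.OddHalf.Small.Plug
section

/-!
# From the conclusions of S1309, S1310, S1311, S1728 and from the list `K4` to the conclusion of S1765
-/

set_option autoImplicit false

namespace Cfsg.Agent.OddHalf.Small.Plug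

open Subgroup Cfsg
open Cfsg.Agent.GH.Defs Cfsg.Agent.OddHalf.Small.Excl

universe u

/-- Further groups of characteristic 2 type. -/
structure RowsTwo : Prop where
  u3 : ∀ (G : Type u) [Group G] [Finite G] (F : Type) [Field F] [Fintype F] (n : ℕ), 2 ≤ n →
    Fintype.card F = (2 ^ n) ^ 2 → Nonempty (G ≃* PSU 3 F (2 ^ n)) → IsCharacteristicTwoType G
  sz : ∀ (G : Type u) [Group G] [Finite G], Lie.IsoSuzuki G → IsCharacteristicTwoType G
  m22 : ∀ (G : Type u) [Group G] [Finite G], Spor.IsoM22 G → IsCharacteristicTwoType G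
  m23 : ∀ (G : Type u) [Group G] [Finite G], Spor.IsoM23 G → IsCharacteristicTwoType G
  j3 : ∀ (G : Type u) [Group G] [Finite G], Spor.IsoJ3 G → IsCharacteristicTwoType G

/-- Lie type in odd characteristic. -/
def LieOdd (X : Type*) [Group X] : Prop := ∃ p : ℕ, p.Prime ∧ p ≠ 2 ∧ IsLieTypeChar p X

/-! ### Lie type in odd characteristic -/

theorem exists_char (F : Type) [Field F] [Fintype F] (hF : Odd (Fintype.card F)) :
    ∃ p : ℕ, p.Prime ∧ p ≠ 2 ∧ CharP F p := by
  obtain ⟨p, hp⟩ := CharP.exists F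
  have hpr : p.Prime := CharP.char_is_prime F p
  refine ⟨p, hpr, ?_, hp⟩
  rintro rfl
  obtain ⟨n, -, hn⟩ := FiniteField.card F 2
  rw [hn] at hF
  exact (Nat.not_odd_iff_even.2 (Nat.even_pow.2 ⟨even_two, n.ne_zero⟩)) hF

theorem one_lt (F : Type) [Field F] [Fintype F] : 1 < Fintype.card F := Fintype.one_lt_card

section Lie

variable {G : Type*} [Group G]

theorem lieOdd_psl (F : Type) [Field F] [Fintype F] (hF : Odd (Fintype.card F)) {n : ℕ} (hn : 2 ≤ n)
    (h2 : n = 2 → 4 ≤ Fintype.card F)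
    (e : Nonempty (G ≃* Matrix.ProjectiveSpecialLinearGroup (Fin n) F)) : LieOdd G := by
  obtain ⟨p, hp, hp2, hc⟩ := exists_char F hF
  exact ⟨p, hp, hp2, Or.inl ⟨F, _, _, hc, n, hn, h2, e⟩⟩

theorem lieOdd_psp (F : Type) [Field F] [Fintype F] (hF : Odd (Fintype.card F)) {m : ℕ} (hm : 2 ≤ m)
    (e : Nonempty (G ≃* PSp m F)) : LieOdd G := by
  obtain ⟨p, hp, hp2, hc⟩ := exists_char F hF
  have h3 : 3 ≤ Fintype.card F := by
    have := one_lt F
    obtain ⟨k, hk⟩ := hF
    omega
  exact ⟨p, hp, hp2, Or.inr (Or.inl ⟨F, _, _, hc, m, hm, fun _ => h3, e⟩)⟩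

theorem odd_card_of_sq {F : Type} [Field F] [Fintype F] {q k : ℕ} (h : Fintype.card F = q ^ k) (hq : Odd q) :
    Odd (Fintype.card F) := by
  rw [h]; exact hq.pow

theorem lieOdd_psu (F : Type) [Field F] [Fintype F] {n q : ℕ} (hF : Fintype.card F = q ^ 2) (hq : Odd q)
    (hn : 3 ≤ n) (e : Nonempty (G ≃* PSU n F q)) : LieOdd G := by
  obtain ⟨p, hp, hp2, hc⟩ := exists_char F (odd_card_of_sq hF hq)
  have h3 : ¬ (n = 3 ∧ q = 2) := by
    rintro ⟨-, rfl⟩
    exact absurd hq (by decide)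
  exact ⟨p, hp, hp2, Or.inr (Or.inr (Or.inl ⟨F, _, _, hc, n, q, hF, hn, h3, e⟩))⟩

theorem lieOdd_g2 (F : Type) [Field F] [Fintype F] (hF : Odd (Fintype.card F))
    (e : Nonempty (G ≃* ↥(Lie.chevG2.group F))) : LieOdd G := by
  obtain ⟨p, hp, hp2, hc⟩ := exists_char F hF
  refine ⟨p, hp, hp2, ?_⟩
  have h3 : 3 ≤ Fintype.card F := by
    have := one_lt F
    obtain ⟨k, hk⟩ := hF
    omega
  iterate 6 right
  left
  exact ⟨F, _, _, hc, Or.inl ⟨h3, e⟩⟩

theorem lieOdd_d4 (K : Type) [Field K] [Fintype K] {q : ℕ} (hq : Odd q) (hK : Fintype.card K = q ^ 3)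
    (e : Nonempty (G ≃* ↥(Lie.twistedD4 K q))) : LieOdd G := by
  obtain ⟨p, hp, hp2, hc⟩ := exists_char K (odd_card_of_sq hK hq)
  refine ⟨p, hp, hp2, ?_⟩
  iterate 7 right
  left
  suffices hpp : IsPrimePow q from ⟨K, _, _, hc, q, hpp, Or.inr ⟨hK, e⟩⟩
  -- `q` is a prime power
  have hf : Fact p.Prime := ⟨hp⟩
  obtain ⟨n, -, hn⟩ := FiniteField.card K p
  rw [hK] at hn
  have h1 : q ∣ p ^ (n : ℕ) := hn ▸ dvd_pow_self q (by norm_num)
  obtain ⟨k, hk, hk'⟩ := (Nat.dvd_prime_pow hp).1 h1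
  rw [isPrimePow_nat_iff]
  refine ⟨p, k, hp, ?_, hk'.symm⟩
  rcases Nat.eq_zero_or_pos k with rfl | h
  · exfalso
    rw [pow_zero] at hk'
    rw [hk', one_pow] at hK
    have := one_lt K
    omega
  · exact h

theorem lieOdd_ree (h : Lie.IsoRee G) : LieOdd G := by
  refine ⟨3, Nat.prime_three, by norm_num, ?_⟩
  iterate 10 right
  exact ⟨rfl, h⟩

theorem isLieTypeChar_congr {H : Type*} [Group H] {p : ℕ} (e : G ≃* H) (h : IsLieTypeChar p G) :
    IsLieTypeChar p H := by
  rcases h with ⟨F, i, j, w, n, h1, h2, ⟨f⟩⟩ | ⟨F, i, j, w, n, h1, h2, ⟨f⟩⟩ | ⟨F, i, j, w, n, q, h1, h2, h3, ⟨f⟩⟩ |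
    ⟨F, i, j, w, n, h1, h2, ⟨f⟩⟩ | ⟨F, i, j, w, n, h1, ⟨f⟩⟩ | ⟨F, i, j, w, n, a, b, h1, h2, ⟨f⟩⟩ |
    ⟨F, i, j, w, h⟩ | ⟨F, i, j, w, q, h1, h⟩ | ⟨h1, F, i, j, m, h2, h3, ⟨f⟩⟩ | ⟨h1, F, i, j, m, h2, h3, ⟨f⟩⟩ |
    ⟨h1, F, i, j, m, h2, h3, ⟨f⟩⟩
  · exact Or.inl ⟨F, i, j, w, n, h1, h2, ⟨e.symm.trans f⟩⟩
  · exact Or.inr (Or.inl ⟨F, i, j, w, n, h1, h2, ⟨e.symm.trans f⟩⟩)
  · exact Or.inr (Or.inr (Or.inl ⟨F, i, j, w, n, q, h1, h2, h3, ⟨e.symm.trans f⟩⟩))
  · exact Or.inr (Or.inr (Or.inr (Or.inl ⟨F, i, j, w, n, h1, h2, ⟨e.symm.trans f⟩⟩)))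
  · exact Or.inr (Or.inr (Or.inr (Or.inr (Or.inl ⟨F, i, j, w, n, h1, ⟨e.symm.trans f⟩⟩))))
  · exact Or.inr (Or.inr (Or.inr (Or.inr (Or.inr (Or.inl ⟨F, i, j, w, n, a, b, h1, h2, ⟨e.symm.trans f⟩⟩)))))
  · iterate 6 right
    left
    refine ⟨F, i, j, w, ?_⟩
    rcases h with ⟨h1, ⟨f⟩⟩ | ⟨⟨f⟩⟩ | ⟨⟨f⟩⟩ | ⟨⟨f⟩⟩ | ⟨⟨f⟩⟩
    · exact Or.inl ⟨h1, ⟨e.symm.trans f⟩⟩
    · exact Or.inr (Or.inl ⟨e.symm.trans f⟩)
    · exact Or.inr (Or.inr (Or.inl ⟨e.symm.trans f⟩))
    · exact Or.inr (Or.inr (Or.inr (Or.inl ⟨e.symm.trans f⟩)))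
    · exact Or.inr (Or.inr (Or.inr (Or.inr ⟨e.symm.trans f⟩)))
  · iterate 7 right
    left
    refine ⟨F, i, j, w, q, h1, ?_⟩
    rcases h with ⟨h2, ⟨f⟩⟩ | ⟨h2, ⟨f⟩⟩
    · exact Or.inl ⟨h2, ⟨e.symm.trans f⟩⟩
    · exact Or.inr ⟨h2, ⟨e.symm.trans f⟩⟩
  · iterate 8 right
    left
    exact ⟨h1, F, i, j, m, h2, h3, ⟨e.symm.trans f⟩⟩
  · iterate 9 right
    left
    exact ⟨h1, F, i, j, m, h2, h3, ⟨e.symm.trans f⟩⟩
  · iterate 10 right
    exact ⟨h1, F, i, j, m, h2, h3, ⟨e.symm.trans f⟩⟩

end Lie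

/-! ### the groups of the conclusion of S1765 -/

section concl

variable {G : Type u} [Group G]

theorem concl_alt {n : ℕ} (hn : n = 7 ∨ 9 ≤ n) (e : Nonempty (G ≃* ↥(alternatingGroup (Fin n)))) : Concl G :=
  Or.inr (Or.inl ⟨n, hn, e⟩)

theorem concl_m12 (h : Spor.IsoM12 G) : Concl G := Or.inr (Or.inr (Or.inl h))

theorem concl_j1 (h : Spor.IsoJ1 G) : Concl G := Or.inr (Or.inr (Or.inr (Or.inl h)))

theorem concl_j2 (h : Spor.IsoJ2 G) : Concl G := Or.inr (Or.inr (Or.inr (Or.inr (Or.inl h))))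

theorem concl_mcl (h : Spor.IsoMcL G) : Concl G := Or.inr (Or.inr (Or.inr (Or.inr (Or.inr (Or.inl h)))))

theorem concl_ly (h : Spor.IsoLy G) : Concl G := by
  unfold Concl
  iterate 6 right
  exact Or.inl h

theorem concl_he (h : Spor.IsoHe G) : Concl G := by
  unfold Concl
  iterate 8 right
  exact Or.inl h

end concl

section main

variable {G : Type u} [Group G] [Finite G]

/-- A group of Lie type in odd characteristic. -/
theorem concl_of_lieOdd (R : Rows) (h2 : ¬ IsCharacteristicTwoType G) (h : LieOdd G) : Concl G :=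
  concl_of_lie R h2 h

omit [Finite G] in
/-- A finite simple group is not `PSU(3,2)`. -/
theorem psu_three_two_ne [IsSimpleGroup G] (hna : ¬ IsMulCommutative G) {F : Type} [Field F] [Fintype F]
    (hF : Fintype.card F = 4) (e : G ≃* PSU 3 F 2) : False := by
  have h1 := (S0282.result hF).2
  have h2 : Group.IsSolvable G :=
    Group.isSolvable_of_isSolvable_injective (f := e.toMonoidHom) e.injective
  apply hna
  exact ⟨⟨fun a b => (IsSimpleGroup.comm_iff_isSolvable.2 h2 a b)⟩⟩

/-- **S1728**. -/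
theorem of_core (R : Rows) (T : RowsTwo.{u}) [IsSimpleGroup G] (hna : ¬ IsMulCommutative G)
    (h2 : ¬ IsCharacteristicTwoType G)
    (h : (∃ (F : Type) (_ : Field F) (_ : Fintype F), 3 ≤ Fintype.card F ∧
        Nonempty (G ≃* Matrix.ProjectiveSpecialLinearGroup (Fin 2) F)) ∨
      Cfsg.Lie.IsoSuzuki G ∨
      (∃ (F : Type) (_ : Field F) (_ : Fintype F) (n : ℕ), 1 ≤ n ∧ Fintype.card F = (2 ^ n) ^ 2 ∧
        Nonempty (G ≃* Cfsg.PSU 3 F (2 ^ n))) ∨
      Cfsg.Spor.IsoM11 G ∨ Cfsg.Spor.IsoJ1 G) : Concl G := by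
  rcases h with ⟨F, _, _, hF, ⟨e⟩⟩ | h | ⟨F, _, _, n, hn, hF, ⟨e⟩⟩ | h | h
  · rcases Nat.even_or_odd (Fintype.card F) with he | ho
    · exact absurd (L2.psl2_even he e) h2
    · rcases Nat.lt_or_ge (Fintype.card F) 4 with h4 | h4
      · refine absurd (L2.psl2 (Or.inl ⟨?_, Or.inl ⟨2, ?_⟩⟩) e) h2
        · have h3 : Fintype.card F = 3 := by omega
          rw [h3]; exact Nat.prime_three
        · omega
      · exact concl_of_lieOdd R h2 (lieOdd_psl F ho le_rfl (fun _ => h4) ⟨e⟩)
  · exact absurd (T.sz G h) h2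
  · rcases Nat.lt_or_ge n 2 with h1 | h1
    · obtain rfl : n = 1 := by omega
      exact (psu_three_two_ne hna hF e).elim
    · exact absurd (T.u3 G F n h1 hF ⟨e⟩) h2
  · exact absurd (M11.charTwo_of_iso h) h2
  · exact concl_j1 h

/-- The list of S1310. -/
theorem of_classical (R : Rows) (h2 : ¬ IsCharacteristicTwoType G)
    (h : (∃ p : ℕ, p.Prime ∧ p ≠ 2 ∧ Cfsg.IsLieTypeChar p G) ∨ Cfsg.Spor.IsoM11 G) : Concl G := by
  rcases h with h | h
  · exact concl_of_lie R h2 h
  · exact absurd (M11.charTwo_of_iso h) h2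

/-- The list of S1309. -/
theorem of_quat (R : Rows) (h2 : ¬ IsCharacteristicTwoType G)
    (h : (∃ p : ℕ, p.Prime ∧ p ≠ 2 ∧ Cfsg.IsLieTypeChar p G) ∨ Cfsg.Spor.IsoM11 G ∨ Cfsg.Spor.IsoM12 G ∨
      (∃ (F : Type) (_ : Field F) (_ : Fintype F), Fintype.card F = 2 ∧ (Nonempty (G ≃* Cfsg.PSp 3 F) ∨
        Nonempty (G ≃* Cfsg.POmega F (Cfsg.quadFormPlus 4 F))))) : Concl G := by
  rcases h with h | h | h | ⟨F, _, _, hF, (⟨⟨e⟩⟩ | ⟨⟨e⟩⟩)⟩
  · exact concl_of_lie R h2 h
  · exact absurd (M11.charTwo_of_iso h) h2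
  · exact concl_m12 h
  · have : CharP F 2 := by
      refine CharTwo.of_one_ne_zero_of_two_eq_zero one_ne_zero ?_
      have h3 : ((Fintype.card F : ℕ) : F) = 0 := Nat.cast_card_eq_zero F
      rw [hF] at h3
      exact_mod_cast h3
    exact absurd (Generic.isCharacteristicTwoType_congr e.symm (Sp.charTwo_PSp (by norm_num))) h2
  · exact absurd (Generic.isCharacteristicTwoType_congr e.symm (Orth.charTwo_POmegaPlus hF (by norm_num))) h2

/-- The list of S1311. -/
theorem of_unbalanced (R : Rows) (h2 : ¬ IsCharacteristicTwoType G)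
    (h : (∃ p : ℕ, p.Prime ∧ p ≠ 2 ∧ Cfsg.IsLieTypeChar p G) ∨
      (∃ n : ℕ, Odd n ∧ 7 ≤ n ∧ Nonempty (G ≃* ↥(alternatingGroup (Fin n)))) ∨
      (∃ (F : Type) (_ : Field F) (_ : Fintype F), Fintype.card F = 4 ∧
        Nonempty (G ≃* Matrix.ProjectiveSpecialLinearGroup (Fin 3) F)) ∨ Cfsg.Spor.IsoHe G) : Concl G := by
  rcases h with h | ⟨n, hn, hn7, e⟩ | ⟨F, _, _, hF, ⟨e⟩⟩ | h
  · exact concl_of_lie R h2 h
  · refine concl_alt ?_ e
    obtain ⟨k, rfl⟩ := hn
    omega
  · exact absurd (L34.charTwo hF e) h2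
  · exact concl_he h

/-- The list `K2` of the simple groups of 2-rank at most 2. -/
theorem of_k2 (R : Rows) (T : RowsTwo.{u}) (h2 : ¬ IsCharacteristicTwoType G) (h : K2 G) : Concl G := by
  rcases h with ⟨F, _, _, hF, h5, e⟩ | ⟨F, _, _, hF, e⟩ | ⟨F, _, _, q, hF, hq, e⟩ | ⟨F, _, _, hF, e⟩ | h | h
  · exact concl_of_lieOdd R h2 (lieOdd_psl F hF le_rfl (fun _ => by omega) e)
  · exact concl_of_lieOdd R h2 (lieOdd_psl F hF (by norm_num) (fun h => absurd h (by norm_num)) e)
  · exact concl_of_lieOdd R h2 (lieOdd_psu F hF hq le_rfl e)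
  · exact absurd (T.u3 G F 2 le_rfl (by rw [hF]; norm_num) e) h2
  · exact concl_alt (Or.inl rfl) h
  · exact absurd (M11.charTwo_of_iso h) h2

/-- **The list `K4` of the simple groups of sectional 2-rank at most 4.** -/
theorem of_k4 (R : Rows) (T : RowsTwo.{u}) [IsSimpleGroup G] (hna : ¬ IsMulCommutative G) (hO : oddCore G = ⊥)
    (h1738 : Cfsg.Agent.GH.AltOut.St1738 G) (h2 : ¬ IsCharacteristicTwoType G) (h : K4 G) : Concl G := by
  rcases h with h | h | ⟨F, _, _, hF, ⟨e⟩⟩ | ⟨F, _, _, hF, ⟨e⟩⟩ | ⟨n, hn8, hn11, e⟩ | ⟨F, _, _, hF, e⟩ |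
    ⟨F, _, _, hF, -, e⟩ | ⟨F, _, _, q, hF, hq, -, e⟩ | ⟨F, _, _, hF, e⟩ | ⟨F, _, _, q, hF, hq, e⟩ |
    ⟨⟨F, _, _, hF, e⟩, -⟩ | ⟨⟨K, _, _, q, hq, hK, e⟩, -⟩ | h | h | h | h | h | h
  · exact of_k2 R T h2 h
  · rcases h with ⟨F, _, _, hF, ⟨e⟩⟩ | ⟨F, _, _, hF, e⟩ | h | h
    · exact absurd (L2.psl2_even (by rw [hF]; decide) e) h2
    · exact absurd (T.sz G ⟨F, _, _, 1, le_rfl, by rw [hF]; norm_num, e⟩) h2
    · exact concl_of_lieOdd R h2 (lieOdd_ree h)
    · exact concl_j1 h
  · exact absurd (L2.psl2_even (by rw [hF]; decide) e) h2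
  · exact absurd (L34.charTwo hF e) h2
  · rcases Nat.eq_or_lt_of_le hn8 with rfl | h9
    · exact absurd (Alt.result (Or.inr (Or.inr rfl)) e) h2
    · exact concl_alt (Or.inr h9) e
  · exact concl_of_lieOdd R h2 (lieOdd_psp F hF le_rfl e)
  · exact concl_of_lieOdd R h2 (lieOdd_psl F hF (by norm_num) (fun h => absurd h (by norm_num)) e)
  · exact concl_of_lieOdd R h2 (lieOdd_psu F hF hq (by norm_num) e)
  · exact concl_of_lieOdd R h2 (lieOdd_psl F (by rw [Nat.odd_iff]; omega) (by norm_num)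
      (fun h => absurd h (by norm_num)) e)
  · exact concl_of_lieOdd R h2 (lieOdd_psu F hF (by rw [Nat.odd_iff]; omega) (by norm_num) e)
  · exact concl_of_lieOdd R h2 (lieOdd_g2 F hF e)
  · exact concl_of_lieOdd R h2 (lieOdd_d4 K hq hK e)
  · exact concl_m12 h
  · exact absurd (T.m22 G h) h2
  · exact absurd (T.m23 G h) h2
  · exact concl_j2 h
  · exact absurd (T.j3 G h) h2
  · rcases Cfsg.Agent.GH.AltOut.mcl_or_ly hna hO h1738 h with h | h
    · exact concl_mcl h
    · exact concl_ly h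

end main

end Cfsg.Agent.OddHalf.Small.Plug

end
end
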